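import Cfsg.Agent.BlocksChars.Palfy.Split

/-!
# Actions with all orbits of size `1` or `p` on an abelian group
-/

set_option autoImplicit false
set_option linter.style.haveILetI false

namespace Cfsg.Agent.BlocksChars.TwoDegrees

open Cfsg.Agent.BlocksChars.Palfy

universe u v

variable {G : Type u} [Group G] [Finite G]

theorem eq_of_le_of_index_eq {H K : Subgroup G} (h : H ≤ K) (he : H.index = K.index) : H = K := by
  refine le_antisymm h (Subgroup.relIndex_eq_one.1 ?_)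
  have h1 := Subgroup.relIndex_mul_index h
  rw [← he] at h1
  exact Nat.eq_of_mul_eq_mul_right (Nat.pos_of_ne_zero Subgroup.index_ne_zero_of_finite)
    (h1.trans (one_mul _).symm)

theorem exists_pow_mem {T : Subgroup G} [T.Normal] {p : ℕ} (hp : p.Prime) (hT : T.index = p)
    {k : G} (hk : k ∉ T) (g : G) : ∃ i : ℕ, (k ^ i)⁻¹ * g ∈ T := by
  haveI : Fact p.Prime := ⟨hp⟩
  have hq : Nat.card (G ⧸ T) = p := by rw [← Subgroup.index_eq_card, hT]
  have h1 : (g : G ⧸ T) ∈ Subgroup.zpowers (k : G ⧸ T) :=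
    zpowers_eq_top_of_prime_card hq (fun e => hk ((QuotientGroup.eq_one_iff k).1 e)) ▸
      Subgroup.mem_top _
  obtain ⟨i, hi⟩ := mem_powers_iff_mem_zpowers.2 h1
  refine ⟨i, QuotientGroup.eq.1 ?_⟩
  rw [QuotientGroup.mk_pow]
  exact hi

variable {L : Type v} [CommGroup L] [Finite L] (φ : G →* MulAut L)

/-- All differences lie on one line. -/
def Line (l z : L) : Prop := ∀ g : G, φ g l / l ∈ Subgroup.zpowers z

variable {φ}

/-- A difference fixed by `k` generates all differences. -/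
theorem line_of_fixed {p : ℕ} (hp : p.Prime) {l : L} [(stabSub φ l).Normal]
    (hl : (stabSub φ l).index = p) {k : G} (hk : k ∉ stabSub φ l)
    (hfix : φ k (φ k l / l) = φ k l / l) : Line φ l (φ k l / l) := by
  intro g
  obtain ⟨i, hi⟩ := exists_pow_mem hp hl hk g
  have hg : φ g l = φ (k ^ i) l := by
    conv_lhs => rw [← mul_inv_cancel_left (k ^ i) g]
    rw [map_mul φ, MulAut.mul_apply, mem_stabSub.1 hi]
  rw [hg]
  clear hg hi
  induction i with
  | zero => simp
  | succ i ih =>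
    have h1 : φ (k ^ (i + 1)) l / l = φ k (φ (k ^ i) l / l) * (φ k l / l) := by
      rw [pow_succ', map_mul φ, MulAut.mul_apply, map_div, div_mul_div_cancel]
    rw [h1]
    obtain ⟨n, hn⟩ := Subgroup.mem_zpowers_iff.1 ih
    rw [← hn, map_zpow, hfix]
    exact mul_mem (Subgroup.zpow_mem_zpowers _ _) (Subgroup.mem_zpowers _)

/-- Two different stabilisers of index `p` give a common fixed line. -/
theorem key {p : ℕ} (hp : p.Prime)
    (h : ∀ l : L, stabSub φ l = ⊤ ∨ ((stabSub φ l).Normal ∧ (stabSub φ l).index = p))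
    {l m : L} {k a : G} (hk : k ∈ stabSub φ m) (hkl : k ∉ stabSub φ l)
    (ha : a ∈ stabSub φ l) (ham : a ∉ stabSub φ m) :
    (∀ g : G, φ g (φ k l / l) = φ k l / l) ∧ (φ k l / l) ^ p = 1 ∧
      φ a m / m ∈ Subgroup.zpowers (φ k l / l) := by
  classical
  have hl : stabSub φ l ≠ ⊤ := fun e => hkl (e ▸ Subgroup.mem_top k)
  have hm : stabSub φ m ≠ ⊤ := fun e => ham (e ▸ Subgroup.mem_top a)
  obtain ⟨hnl, hil⟩ := (h l).resolve_left hl
  obtain ⟨hnm, him⟩ := (h m).resolve_left hm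
  haveI := hnl
  have hfix : ∀ (l : L) (g s : G), s ∈ stabSub φ l → φ s (φ g l) = φ g l := by
    intro l g s hs
    rcases h l with ht | ⟨hn, -⟩
    · rw [mem_stabSub.1 (ht ▸ Subgroup.mem_top g : g ∈ stabSub φ l)]; exact hs
    · have h1 := hn.conj_mem s hs g⁻¹
      rw [inv_inv] at h1
      calc φ s (φ g l) = φ g (φ (g⁻¹ * s * g) l) := by
            rw [← MulAut.mul_apply, ← MulAut.mul_apply, ← map_mul, ← map_mul]
            congr 2
            group
        _ = φ g l := by rw [mem_stabSub.1 h1]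
  -- the product
  have hkn : k ∉ stabSub φ (l * m) := by
    intro h1
    rw [mem_stabSub, map_mul, mem_stabSub.1 hk] at h1
    exact hkl (mul_right_cancel h1)
  obtain ⟨hn3, hi3⟩ := (h (l * m)).resolve_left fun e => hkn (e ▸ Subgroup.mem_top k)
  haveI := hn3
  obtain ⟨j, hj⟩ := exists_pow_mem hp hi3 hkn a⁻¹
  have hmem : k ^ j * a ∈ stabSub φ (l * m) := by
    have h2 := (stabSub φ (l * m)).inv_mem hj
    rw [mul_inv_rev, inv_inv, inv_inv] at h2
    exact hn3.mem_comm h2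
  let b : ℕ → L := fun i => φ (k ^ i) l / l
  set c := φ a m / m with hcdef
  have hcb : c * b j = 1 := by
    have h1 : φ (k ^ j * a) (l * m) = l * m := hmem
    have hkm : φ (k ^ j) (φ a m) = φ a m := hfix m a _ ((stabSub φ m).pow_mem hk j)
    rw [map_mul φ, MulAut.mul_apply, map_mul, map_mul, mem_stabSub.1 ha, hkm] at h1
    show φ a m / m * (φ (k ^ j) l / l) = 1
    rw [div_mul_div_comm, div_eq_one, mul_comm (φ a m), mul_comm m]
    exact h1
  have hcfix : φ k c = c := by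
    rw [hcdef, map_div, hfix m a k hk, mem_stabSub.1 hk]
  have hbl : ∀ (i : ℕ) (s : G), s ∈ stabSub φ l → φ s (b i) = b i := fun i s hs => by
    show φ s (φ (k ^ i) l / l) = φ (k ^ i) l / l
    rw [map_div, hfix l _ s hs, mem_stabSub.1 hs]
  have hkp : k ^ p ∈ stabSub φ l := by
    rw [← hil]; exact Subgroup.pow_index_mem _ k
  have hbjfix : φ k (b j) = b j := by
    rw [eq_inv_of_mul_eq_one_right hcb, map_inv, hcfix]
  have hjp : ¬ p ∣ j := by
    rintro ⟨t, rfl⟩
    have h1 : b (p * t) = 1 := by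
      show φ (k ^ (p * t)) l / l = 1
      rw [div_eq_one, pow_mul]
      exact mem_stabSub.1 ((stabSub φ l).pow_mem hkp t)
    rw [h1, mul_one, hcdef, div_eq_one] at hcb
    exact ham hcb
  have hbadd : ∀ i i' : ℕ, b (i + i') = φ (k ^ i) (b i') * b i := fun i i' => by
    show φ (k ^ (i + i')) l / l = φ (k ^ i) (φ (k ^ i') l / l) * (φ (k ^ i) l / l)
    rw [pow_add, map_mul φ, MulAut.mul_apply, map_div, div_mul_div_cancel]
  have hb1 : b 1 = φ k l / l := by
    show φ (k ^ 1) l / l = _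
    rw [pow_one]
  have hjk : φ (k ^ j) (b 1) = b 1 := by
    have e1 := hbadd j 1
    have e2 := hbadd 1 j
    rw [pow_one, hbjfix, add_comm 1 j] at e2
    rw [e2, mul_comm (b j)] at e1
    exact (mul_right_cancel e1).symm
  have hk1 : φ k (b 1) = b 1 := by
    have hmem1 : k ^ j ∈ stabSub φ (b 1) := hjk
    have hmem2 : k ^ p ∈ stabSub φ (b 1) := hbl 1 _ hkp
    have hg : k ^ Nat.gcd j p ∈ stabSub φ (b 1) := by
      rw [← zpow_natCast, Nat.gcd_eq_gcd_ab, zpow_add, zpow_mul, zpow_mul, zpow_natCast,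
        zpow_natCast]
      exact mul_mem ((stabSub φ (b 1)).zpow_mem hmem1 _) ((stabSub φ (b 1)).zpow_mem hmem2 _)
    rwa [((hp.coprime_iff_not_dvd.2 hjp).symm : Nat.gcd j p = 1), pow_one] at hg
  have hbpow : ∀ i, b i = b 1 ^ i := by
    intro i
    induction i with
    | zero => simp [b]
    | succ i ih => rw [add_comm i 1, hbadd 1 i, pow_one, ih, map_pow, hk1, add_comm 1 i, pow_succ]
  have hall : ∀ g : G, φ g (b 1) = b 1 := by
    intro g
    obtain ⟨i, hi⟩ := exists_pow_mem hp hil hkl g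
    have hki : k ^ i ∈ stabSub φ (b 1) := (stabSub φ (b 1)).pow_mem hk1 i
    have h2 := (stabSub φ (b 1)).mul_mem hki (hbl 1 _ hi)
    rwa [mul_inv_cancel_left] at h2
  rw [← hb1]
  refine ⟨hall, ?_, ?_⟩
  · rw [← hbpow]
    show φ (k ^ p) l / l = 1
    rw [div_eq_one]
    exact hkp
  · refine ⟨-(j : ℤ), ?_⟩
    show b 1 ^ (-(j : ℤ)) = c
    rw [zpow_neg, zpow_natCast, ← hbpow, eq_inv_of_mul_eq_one_left hcb]

theorem zpowers_eq_of_prime {p : ℕ} [hp : Fact p.Prime] {w z : L} (hz : z ^ p = 1)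
    (hw : w ∈ Subgroup.zpowers z) (hw1 : w ≠ 1) : Subgroup.zpowers w = Subgroup.zpowers z := by
  refine Subgroup.eq_of_le_of_card_ge (Subgroup.zpowers_le.2 hw) ?_
  obtain ⟨i, rfl⟩ := Subgroup.mem_zpowers_iff.1 hw
  have hz1 : z ≠ 1 := fun e => hw1 (by rw [e, one_zpow])
  have hwp : (z ^ i) ^ p = 1 := by
    rw [← zpow_natCast, ← zpow_mul, mul_comm, zpow_mul, zpow_natCast, hz, one_zpow]
  rw [Nat.card_zpowers, Nat.card_zpowers, orderOf_eq_prime hz hz1, orderOf_eq_prime hwp hw1]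

/-- Orbits of size at most `p`: one stabiliser, or one line of differences. -/
theorem orbit_dichotomy {p : ℕ} (hp : p.Prime)
    (h : ∀ l : L, stabSub φ l = ⊤ ∨ ((stabSub φ l).Normal ∧ (stabSub φ l).index = p)) :
    (∃ M : Subgroup G, (M = ⊤ ∨ M.index = p) ∧ ∀ g ∈ M, ∀ l : L, φ g l = l) ∨
      ∃ z : L, z ≠ 1 ∧ z ^ p = 1 ∧ (∀ g : G, φ g z = z) ∧ ∀ l : L, Line φ l z := by
  classical
  haveI : Fact p.Prime := ⟨hp⟩
  by_cases hone : ∀ l m : L, stabSub φ l ≠ ⊤ → stabSub φ m ≠ ⊤ → stabSub φ l = stabSub φ m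
  · left
    by_cases hall : ∀ l, stabSub φ l = ⊤
    · exact ⟨⊤, Or.inl rfl, fun g _ l => mem_stabSub.1 (hall l ▸ Subgroup.mem_top g)⟩
    push Not at hall
    obtain ⟨l0, hl0⟩ := hall
    refine ⟨stabSub φ l0, Or.inr ((h l0).resolve_left hl0).2, fun g hg l => ?_⟩
    by_cases hl : stabSub φ l = ⊤
    · exact mem_stabSub.1 (hl ▸ Subgroup.mem_top g)
    · exact mem_stabSub.1 (hone l0 l hl0 hl ▸ hg)
  right
  push Not at hone
  have hexists : ∀ l m : L, stabSub φ l ≠ ⊤ → stabSub φ m ≠ ⊤ → stabSub φ l ≠ stabSub φ m →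
      ∃ k ∈ stabSub φ m, k ∉ stabSub φ l := by
    intro l m hl hm hne
    by_contra hcon
    push Not at hcon
    exact hne (eq_of_le_of_index_eq hcon
      (((h m).resolve_left hm).2.trans ((h l).resolve_left hl).2.symm)).symm
  obtain ⟨l0, m0, hl0, hm0, hne0⟩ := hone
  obtain ⟨k0, hk0, hk0'⟩ := hexists l0 m0 hl0 hm0 hne0
  obtain ⟨a0, ha0, ha0'⟩ := hexists m0 l0 hm0 hl0 (Ne.symm hne0)
  obtain ⟨hzfix, hzp, -⟩ := key hp h hk0 hk0' ha0 ha0'
  set z := φ k0 l0 / l0 with hz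
  have hz1 : z ≠ 1 := fun e => hk0' (div_eq_one.1 e)
  refine ⟨z, hz1, hzp, hzfix, fun l => ?_⟩
  have hline0 : Line φ l0 z := by
    obtain ⟨hn, hi⟩ := (h l0).resolve_left hl0
    haveI := hn
    exact line_of_fixed hp hi hk0' (hzfix k0)
  have step : ∀ l m : L, stabSub φ l ≠ ⊤ → stabSub φ m ≠ ⊤ → stabSub φ l ≠ stabSub φ m →
      Line φ l z → Line φ m z := by
    intro l m hl hm hne hlz
    obtain ⟨k, hk, hkl⟩ := hexists l m hl hm hne
    obtain ⟨a, ha, ham⟩ := hexists m l hm hl (Ne.symm hne)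
    obtain ⟨hnm, him⟩ := (h m).resolve_left hm
    haveI := hnm
    have hma := line_of_fixed hp him ham ((key hp h ha ham hk hkl).1 a)
    have hsub : φ a m / m ∈ Subgroup.zpowers z := by
      rw [← zpowers_eq_of_prime hzp (hlz k) fun e => hkl (div_eq_one.1 e)]
      exact (key hp h hk hkl ha ham).2.2
    exact fun g => Subgroup.zpowers_le.2 hsub (hma g)
  by_cases hl : stabSub φ l = ⊤
  · intro g
    rw [mem_stabSub.1 (hl ▸ Subgroup.mem_top g : g ∈ stabSub φ l), div_self']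
    exact one_mem _
  by_cases hlm : stabSub φ l0 = stabSub φ l
  · exact step m0 l hm0 hl (hlm ▸ Ne.symm hne0) (step l0 m0 hl0 hm0 hne0 hline0)
  · exact step l0 l hl0 hl hlm hline0

end Cfsg.Agent.BlocksChars.TwoDegrees
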