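import Cfsg.Agent.S4456
import Cfsg.Agent.BlocksChars.Palfy.Split
import Cfsg.Agent.BlocksChars.DerivedLength
import Cfsg.Agent.Lib.CharTheory.ExtendChar
import Cfsg.Agent.Lib.Characters.Monomial
import Cfsg.Agent.BlocksChars.TwoDegrees.Orbit

/-!
# Groups with two character degrees
-/

set_option autoImplicit false
set_option linter.style.haveILetI false

namespace Cfsg.Agent.BlocksChars.TwoDegrees

open Cfsg.Agent.Characters Cfsg.Agent.CharTheory Cfsg.Agent.BlocksChars
open Cfsg.Agent.BlocksChars.Palfy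
open scoped commutatorElement IsMulCommutative Pointwise

universe u v

section Unique

variable {G : Type u} [Group G] {L : Type v} [CommGroup L] [Finite L]

open Classical in
/-- In an abelian coprime action with all orbits of size `1` or `m`, moved points share
their stabiliser. -/
theorem stab_unique [Finite G] (φ : G →* MulAut L) (hc : ∀ g h : G, φ g * φ h = φ h * φ g)
    (hcop : Nat.Coprime (Nat.card φ.range) (Nat.card L)) {m : ℕ}
    (h : ∀ l : L, stabSub φ l = ⊤ ∨ (stabSub φ l).index = m) {v w : L}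
    (hv : stabSub φ v ≠ ⊤) (hw : stabSub φ w ≠ ⊤) : stabSub φ v = stabSub φ w := by
  set S := stabSub φ v with hS
  by_contra hne
  haveI : Finite φ.range := Finite.of_surjective _ φ.rangeRestrict_surjective
  haveI : Finite (S.map φ) :=
    Finite.of_injective _ (Subgroup.inclusion_injective (Subgroup.map_le_range φ S))
  haveI := Fintype.ofFinite (S.map φ)
  set n := Fintype.card (S.map φ) with hn
  have hnL : Nat.Coprime (Nat.card L) n := by
    refine (Nat.Coprime.coprime_dvd_left ?_ hcop).symm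
    rw [hn, ← Nat.card_eq_fintype_card]
    exact Subgroup.card_dvd_of_le (Subgroup.map_le_range φ S)
  have hinj : ∀ a b : L, a ^ n = b ^ n → a = b := fun a b e => (powCoprime hnL).injective e
  let N : L →* L :=
    { toFun := fun x => ∏ σ : S.map φ, (σ : MulAut L) x
      map_one' := by simp
      map_mul' := fun a b => by simp [Finset.prod_mul_distrib] }
  have hNdef : ∀ x, N x = ∏ σ : S.map φ, (σ : MulAut L) x := fun x => rfl
  have hNfix : ∀ x : L, ∀ s ∈ S, φ s (N x) = N x := by
    intro x s hs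
    rw [hNdef, map_prod]
    exact Fintype.prod_equiv (Equiv.mulLeft (⟨φ s, s, hs, rfl⟩ : S.map φ)) _ _ fun σ => rfl
  have hNcomm : ∀ (g : G) (x : L), φ g (N x) = N (φ g x) := by
    intro g x
    rw [hNdef, hNdef, map_prod]
    refine Finset.prod_congr rfl fun σ _ => ?_
    obtain ⟨s, -, hs⟩ := σ.2
    rw [← hs, ← MulAut.mul_apply, hc, MulAut.mul_apply]
  have hNid : ∀ x : L, (∀ s ∈ S, φ s x = x) → N x = x ^ n := by
    intro x hx
    rw [hNdef, Finset.prod_congr rfl (g := fun _ => x) fun σ _ => ?_, Finset.prod_const,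
      Finset.card_univ]
    obtain ⟨s, hs, hs'⟩ := σ.2
    rw [← hs', hx s hs]
  set w2 := w ^ n / N w with hw2
  have hNw2 : N w2 = 1 := by
    rw [hw2, map_div, map_pow, hNid (N w) (hNfix w), div_self']
  have hSR : ¬ S ≤ stabSub φ w := fun hle =>
    hne (eq_of_le_of_index_eq hle (((h v).resolve_left hv).trans ((h w).resolve_left hw).symm))
  have hw2S : ¬ S ≤ stabSub φ w2 := by
    intro hle
    refine hSR fun s hs => hinj _ _ ?_
    have h1 : φ s w2 = w2 := hle hs
    rw [hw2, map_div, map_pow, hNfix w s hs] at h1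
    exact div_left_injective h1
  set x0 := v * w2 with hx0
  have hx : ∀ g ∈ stabSub φ x0, g ∈ S ∧ φ g w2 = w2 := by
    intro g hg
    have hg' : φ g (v * w2) = v * w2 := hg
    have h1 : φ g v = v := by
      have h2 := congrArg N hg'
      rw [← hNcomm, map_mul N, hNw2, mul_one, hNid v (fun s hs => hs), map_pow] at h2
      exact hinj _ _ h2
    rw [map_mul, h1] at hg'
    exact ⟨h1, mul_left_cancel hg'⟩
  have hle : stabSub φ x0 ≤ S := fun g hg => (hx g hg).1
  have heq : stabSub φ x0 = S := by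
    refine eq_of_le_of_index_eq hle ?_
    rw [(h x0).resolve_left fun e => hv (top_le_iff.1 (e ▸ hle)), (h v).resolve_left hv]
  exact hw2S fun s hs => (hx s (heq ▸ hs)).2

end Unique

variable {G : Type u} [Group G] [Finite G]

theorem charDegree_pos (χ : Cfsg.IrrCharacter G) : 0 < Cfsg.charDegree (χ : G → ℂ) := by
  refine Nat.pos_of_ne_zero fun h => irr_one_ne_zero χ.2 ?_
  rw [← Degrees.charDegree_cast, h, Nat.cast_zero]

theorem linear_of_quotient_comm (N : Subgroup G) [N.Normal] (hc : commutator G ≤ N)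
    (β : Cfsg.IrrCharacter (G ⧸ N)) : Cfsg.charDegree (β : G ⧸ N → ℂ) = 1 := by
  haveI := Fintype.ofFinite (G ⧸ N)
  obtain ⟨d, hd, hdvd⟩ := CharTheory.Ito.degree_dvd_index_abelian (⊤ : Subgroup (G ⧸ N))
    (fun a _ b _ => by
      obtain ⟨x, rfl⟩ := QuotientGroup.mk'_surjective N a
      obtain ⟨y, rfl⟩ := QuotientGroup.mk'_surjective N b
      rw [← commutatorElement_eq_one_iff_mul_comm, ← map_commutatorElement]
      refine (QuotientGroup.eq_one_iff _).2 (hc ?_)
      exact Subgroup.commutator_mem_commutator (Subgroup.mem_top _) (Subgroup.mem_top _)) β.2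
  rw [Subgroup.index_top, Nat.dvd_one] at hdvd
  exact Nat.cast_injective (R := ℂ) ((Degrees.charDegree_cast β).trans (hd.trans (by rw [hdvd])))

/-- In a nilpotent group with degrees `1` and `m`, an abelian subgroup of index `m` contains
the commutator subgroup. -/
theorem commutator_le_of_abelian_index [Group.IsNilpotent G] {m : ℕ}
    (hcd : ∀ χ : Cfsg.IrrCharacter G,
      Cfsg.charDegree (χ : G → ℂ) = 1 ∨ Cfsg.charDegree (χ : G → ℂ) = m)
    (S : Subgroup G) (hS : ∀ a ∈ S, ∀ b ∈ S, a * b = b * a) (hi : S.index = m) :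
    commutator G ≤ S := by
  classical
  by_cases hG : commutator G = ⊥
  · rw [hG]; exact bot_le
  set K := ⁅commutator G, (⊤ : Subgroup G)⁆ with hK
  have hKD : K ≤ commutator G := Subgroup.commutator_le_left _ _
  have hne : ¬ commutator G ≤ K := by
    intro hle
    apply hG
    obtain ⟨n, hn⟩ := Subgroup.nilpotent_iff_lowerCentralSeries.1 (inferInstance : Group.IsNilpotent G)
    have hall : ∀ k, commutator G ≤ (⊤ : Subgroup G).lowerCentralSeries (k + 1) := by
      intro k
      induction k with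
      | zero => rw [Subgroup.top_lowerCentralSeries_one]
      | succ k ih =>
        refine hle.trans ?_
        rw [Subgroup.lowerCentralSeries_succ]
        exact Subgroup.commutator_mono ih le_rfl
    refine le_bot_iff.1 ((hall n).trans ?_)
    exact (Subgroup.lowerCentralSeries_antitone _ (Nat.le_succ n)).trans hn.le
  set π := QuotientGroup.mk' K with hπ
  have hSup : (S ⊔ commutator G).Normal := Subgroup.Normal.of_commutator_le G le_sup_right
  set A := (S ⊔ commutator G).map π with hAdef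
  haveI : A.Normal := hSup.map _ (QuotientGroup.mk'_surjective K)
  have hcen : ∀ a ∈ commutator G, ∀ g : G, π g * π a = π a * π g := fun a ha g => by
    symm
    rw [← commutatorElement_eq_one_iff_mul_comm, ← map_commutatorElement]
    exact (QuotientGroup.eq_one_iff _).2
      (Subgroup.commutator_mem_commutator ha (Subgroup.mem_top g))
  have hAab : ∀ a ∈ A, ∀ b ∈ A, a * b = b * a := by
    rintro _ ⟨a, ha, rfl⟩ _ ⟨b, hb, rfl⟩
    rw [SetLike.mem_coe, ← SetLike.mem_coe, Subgroup.mul_normal] at ha hb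
    obtain ⟨a1, ha1, a2, ha2, rfl⟩ := ha
    obtain ⟨b1, hb1, b2, hb2, rfl⟩ := hb
    simp only [map_mul]
    have e1 : Commute (π a1) (π b1) := by
      show π a1 * π b1 = π b1 * π a1
      rw [← map_mul, ← map_mul, hS a1 ha1 b1 hb1]
    have e2 : ∀ g : G, Commute (π g) (π b2) := fun g => hcen b2 hb2 g
    have e3 : ∀ g : G, Commute (π a2) (π g) := fun g => (hcen a2 ha2 g).symm
    exact ((e1.mul_right (e2 a1)).mul_left ((e3 b1).mul_right (e2 a2)))
  -- a non-linear character of the class two quotient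
  obtain ⟨β, hβ⟩ : ∃ β : Cfsg.IrrCharacter (G ⧸ K), Cfsg.charDegree (β : G ⧸ K → ℂ) ≠ 1 := by
    by_contra hall
    push Not at hall
    have hc := ItoPSolvable.comm_of_linear hall
    refine hne ?_
    rw [_root_.commutator, Subgroup.commutator_le]
    intro a _ b _
    refine (QuotientGroup.eq_one_iff _).1 ?_
    show π ⁅a, b⁆ = 1
    rw [map_commutatorElement, commutatorElement_eq_one_iff_mul_comm]
    exact hc.is_comm.comm _ _
  haveI := Fintype.ofFinite (G ⧸ K)
  haveI := Fintype.ofFinite G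
  have hirr : Cfsg.IsIrrCharacter G ((β : G ⧸ K → ℂ) ∘ π) :=
    isIrrCharacter_comp_surjective π (QuotientGroup.mk'_surjective K) β.2
  have hdeg : Cfsg.charDegree ((β : G ⧸ K → ℂ) ∘ π) = Cfsg.charDegree (β : G ⧸ K → ℂ) :=
    Nat.cast_injective (R := ℂ) (by
      rw [Degrees.charDegree_cast β, Degrees.charDegree_cast ⟨_, hirr⟩]
      simp)
  have hm : Cfsg.charDegree (β : G ⧸ K → ℂ) = m := by
    rcases hcd ⟨_, hirr⟩ with h | h
    · exact absurd (hdeg.symm.trans h) hβ
    · exact hdeg.symm.trans h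
  obtain ⟨d, hd, hdvd⟩ := CharTheory.Ito.degree_dvd_index_abelian A hAab β.2
  have hdm : d = m := by
    rw [← hm]
    exact (Nat.cast_injective (R := ℂ) ((Degrees.charDegree_cast β).trans hd)).symm
  rw [hdm, hAdef, Subgroup.index_map, QuotientGroup.ker_mk',
    sup_eq_left.2 (hKD.trans le_sup_right),
    MonoidHom.range_eq_top.2 (QuotientGroup.mk'_surjective K), Subgroup.index_top, mul_one] at hdvd
  have h2 : (S ⊔ commutator G).index ∣ S.index := Subgroup.index_dvd_of_le le_sup_left
  rw [hi] at h2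
  have h3 : S = S ⊔ commutator G :=
    eq_of_le_of_index_eq le_sup_left (hi.trans (Nat.dvd_antisymm hdvd h2))
  exact h3 ▸ le_sup_right

/-- An abelian normal Hall subgroup; the quotient is abelian unless `m` is a prime power. -/
theorem exists_hall {m : ℕ}
    (hcd : ∀ χ : Cfsg.IrrCharacter G,
      Cfsg.charDegree (χ : G → ℂ) = 1 ∨ Cfsg.charDegree (χ : G → ℂ) = m)
    (hm : ∃ χ : Cfsg.IrrCharacter G, Cfsg.charDegree (χ : G → ℂ) = m) (hm1 : m ≠ 1) :
    ∃ M : Subgroup G, M.Normal ∧ IsMulCommutative M ∧ Nat.Coprime (Nat.card M) M.index ∧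
      (commutator G ≤ M ∨ ∃ p e k : ℕ, p.Prime ∧ m = p ^ e ∧ M.index = p ^ k) := by
  classical
  obtain ⟨χ0, hχ0⟩ := hm
  have hmpos : 0 < m := hχ0 ▸ charDegree_pos χ0
  have hN : ∀ q : m.primeFactors, ∃ N : Subgroup G, N.Normal ∧ (Nat.card N).Coprime q ∧
      ∃ k : ℕ, N.index = (q : ℕ) ^ k := fun q =>
    Cfsg.Agent.S4456.result q (Nat.prime_of_mem_primeFactors q.2) fun χ hχ => by
      rw [(hcd χ).resolve_left hχ]
      exact Nat.dvd_of_mem_primeFactors q.2
  choose N hNn hNcop k hNi using hN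
  have hab : ∀ M : Subgroup G, M.Normal → Nat.Coprime (Nat.card M) m → IsMulCommutative M := by
    intro M hMn hMm
    haveI := hMn
    refine ItoPSolvable.comm_of_linear fun θ => ?_
    haveI := Fintype.ofFinite M
    obtain ⟨χ, hχ, -⟩ := ItoPSolvable.exists_over M θ
    rcases hcd χ with h1 | h1
    · exact Nat.dvd_one.1 (h1 ▸ hχ)
    · exact Nat.eq_one_of_dvd_coprimes hMm (Degrees.charDegree_dvd_card θ) (h1 ▸ hχ)
  by_cases hall : ∀ q, commutator G ≤ N q
  · -- all quotients abelian: intersect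
    set M : Subgroup G := ⨅ q, N q with hMdef
    have hMn : M.Normal := Subgroup.normal_iInf_normal hNn
    have hMm : Nat.Coprime (Nat.card M) m := by
      refine Nat.coprime_of_dvd fun q hq h1 h2 => ?_
      have hqm : q ∈ m.primeFactors := Nat.mem_primeFactors.2 ⟨hq, h2, hmpos.ne'⟩
      exact hq.not_dvd_one ((hNcop ⟨q, hqm⟩).gcd_eq_one ▸
        Nat.dvd_gcd (h1.trans (Subgroup.card_dvd_of_le (iInf_le N ⟨q, hqm⟩))) dvd_rfl)
    have hidx : ∀ s : Finset m.primeFactors, ∀ q : ℕ, q.Prime → q ∣ (s.inf N).index → q ∣ m := by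
      intro s
      induction s using Finset.induction with
      | empty =>
        intro q hq hd
        rw [Finset.inf_empty, Subgroup.index_top] at hd
        exact absurd hd hq.not_dvd_one
      | insert a s _ ih =>
        intro q hq hd
        rw [Finset.inf_insert, ← Subgroup.relIndex_mul_index inf_le_right,
          Subgroup.inf_relIndex_right] at hd
        rcases hq.dvd_mul.1 hd with h | h
        · haveI := hNn a
          have h' := h.trans (Subgroup.relIndex_dvd_index_of_normal _ _)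
          rw [hNi a] at h'
          rw [(Nat.prime_dvd_prime_iff_eq hq (Nat.prime_of_mem_primeFactors a.2)).1
            (hq.dvd_of_dvd_pow h')]
          exact Nat.dvd_of_mem_primeFactors a.2
        · exact ih q hq h
    have hMi : ∀ q : ℕ, q.Prime → q ∣ M.index → q ∣ m := by
      have e : M = Finset.univ.inf N := (Finset.inf_univ_eq_iInf N).symm
      rw [e]; exact hidx _
    refine ⟨M, hMn, hab M hMn hMm, ?_, Or.inl (le_iInf hall)⟩
    refine Nat.coprime_of_dvd fun q hq h1 h2 => ?_
    exact hq.not_dvd_one (hMm.gcd_eq_one ▸ Nat.dvd_gcd h1 (hMi q hq h2))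
  · push Not at hall
    obtain ⟨q, hq⟩ := hall
    haveI := hNn q
    have hqp : (q : ℕ).Prime := Nat.prime_of_mem_primeFactors q.2
    obtain ⟨β, hβ⟩ : ∃ β : Cfsg.IrrCharacter (G ⧸ N q), Cfsg.charDegree (β : G ⧸ N q → ℂ) ≠ 1 := by
      by_contra hlin
      push Not at hlin
      have hc := ItoPSolvable.comm_of_linear hlin
      refine hq ?_
      rw [_root_.commutator, Subgroup.commutator_le]
      intro a _ b _
      refine (QuotientGroup.eq_one_iff _).1 ?_
      show QuotientGroup.mk' (N q) ⁅a, b⁆ = 1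
      rw [map_commutatorElement, commutatorElement_eq_one_iff_mul_comm]
      exact hc.is_comm.comm _ _
    haveI := Fintype.ofFinite (G ⧸ N q)
    haveI := Fintype.ofFinite G
    have hirr : Cfsg.IsIrrCharacter G ((β : G ⧸ N q → ℂ) ∘ QuotientGroup.mk' (N q)) :=
      isIrrCharacter_comp_surjective _ (QuotientGroup.mk'_surjective _) β.2
    have hdeg : Cfsg.charDegree ((β : G ⧸ N q → ℂ) ∘ QuotientGroup.mk' (N q)) =
        Cfsg.charDegree (β : G ⧸ N q → ℂ) := Nat.cast_injective (R := ℂ) (by
      rw [Degrees.charDegree_cast β, Degrees.charDegree_cast ⟨_, hirr⟩]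
      simp)
    have hβm : Cfsg.charDegree (β : G ⧸ N q → ℂ) = m := by
      rcases hcd ⟨_, hirr⟩ with h | h
      · exact absurd (hdeg.symm.trans h) hβ
      · exact hdeg.symm.trans h
    have hdvd := Degrees.charDegree_dvd_card β
    rw [hβm, ← Subgroup.index_eq_card, hNi q] at hdvd
    obtain ⟨e, -, he⟩ := (Nat.dvd_prime_pow hqp).1 hdvd
    have hcm : Nat.Coprime (Nat.card (N q)) m := he ▸ (hNcop q).pow_right e
    exact ⟨N q, hNn q, hab _ (hNn q) hcm, hNi q ▸ (hNcop q).pow_right _,
      Or.inr ⟨q, e, k q, hqp, he, hNi q⟩⟩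

/-- Extension of an invariant linear character from a normal Hall subgroup. -/
theorem exists_extension {M T : Subgroup G} [M.Normal] (hMT : M ≤ T)
    (hcop : Nat.Coprime (Nat.card M) M.index) (l : M →* ℂˣ)
    (hinv : ∀ t ∈ T, ∀ v : M, l (MulAut.conjNormal t v) = l v) :
    ∃ e : T →* ℂˣ, ∀ v : M, e ⟨v, hMT v.2⟩ = l v := by
  classical
  let ε := Subgroup.subgroupOfEquivOfLe hMT
  let l' : M.subgroupOf T →* ℂˣ := l.comp ε.toMonoidHom
  obtain ⟨μ, hμ, -⟩ := ExtendChar.exists_linear_extension_coprime (M.subgroupOf T)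
    (lam := fun a => (l' a : ℂ)) ⟨isCharacter_linear l', by simp⟩ (fun t a => by
      refine congrArg Units.val ?_
      refine Eq.trans (congrArg l (Subtype.ext ?_)) (hinv (t : G) t.2 (ε a))
      simp [ε]) (by
      refine Nat.Coprime.coprime_dvd_left ?_ (Nat.Coprime.coprime_dvd_right ?_ hcop.symm)
      · exact Dvd.intro _ (Subgroup.relIndex_mul_index hMT)
      · refine orderOf_dvd_of_pow_eq_one (funext fun a => ?_)
        rw [Pi.pow_apply, Pi.one_apply, ← Units.val_pow_eq_pow_val, ← map_pow,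
          show a ^ Nat.card M = 1 from by
            rw [← Nat.card_congr ε.toEquiv]; exact pow_card_eq_one',
          map_one, Units.val_one])
  refine ⟨μ, fun v => Units.ext ?_⟩
  exact hμ ⟨⟨(v : G), hMT v.2⟩, v.2⟩

/-- Two degrees: an abelian subgroup of index `m`, or a nilpotent group. -/
theorem main {m : ℕ}
    (hcd : ∀ χ : Cfsg.IrrCharacter G,
      Cfsg.charDegree (χ : G → ℂ) = 1 ∨ Cfsg.charDegree (χ : G → ℂ) = m)
    (hm : ∃ χ : Cfsg.IrrCharacter G, Cfsg.charDegree (χ : G → ℂ) = m) (hm1 : m ≠ 1) :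
    (∃ A : Subgroup G, A.Normal ∧ (∀ a ∈ A, ∀ b ∈ A, a * b = b * a) ∧ A.index = m ∧
        commutator G ≤ A) ∨
      (Group.IsNilpotent G ∧ ∃ p e : ℕ, p.Prime ∧ m = p ^ e ∧ ∃ P A : Subgroup G, P.Normal ∧
        A.Normal ∧ IsPGroup p P ∧ (∀ a ∈ A, ∀ b ∈ A, a * b = b * a) ∧ P ⊓ A = ⊥ ∧ P ⊔ A = ⊤) := by
  classical
  obtain ⟨M, hMn, hMc, hcop, hcase⟩ := exists_hall hcd hm hm1
  haveI := hMn
  haveI := hMc
  have hMab : ∀ a ∈ M, ∀ b ∈ M, a * b = b * a := fun a ha b hb =>
    congrArg Subtype.val (mul_comm (⟨a, ha⟩ : M) ⟨b, hb⟩)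
  haveI := finite_dual M
  set φ := dualAct M with hφ
  have hMle : ∀ l : M →* ℂˣ, M ≤ stabSub (X := M →* ℂˣ) φ l := fun l x hx => by
    rw [hφ, mem_stabSub, dualAct_eq_iff]
    intro v
    refine congrArg l (Subtype.ext ?_)
    rw [MulAut.conjNormal_apply, hMab x hx v v.2, mul_inv_cancel_right]
  have hext : ∀ (l : M →* ℂˣ) (T : Subgroup G) (hMT : M ≤ T), T ≤ stabSub (X := M →* ℂˣ) φ l →
      ∃ e : T →* ℂˣ, ∀ v : M, e ⟨v, hMT v.2⟩ = l v := fun l T hMT hT =>
    exists_extension hMT hcop l fun t ht => (dualAct_eq_iff M t l).1 (hT ht)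
  -- the stabilisers
  have hstab : ∀ l : M →* ℂˣ, stabSub (X := M →* ℂˣ) φ l = ⊤ ∨
      ((stabSub (X := M →* ℂˣ) φ l).index = m ∧ commutator G ≤ stabSub (X := M →* ℂˣ) φ l ∧
        ∀ a ∈ stabSub (X := M →* ℂˣ) φ l, ∀ b ∈ stabSub (X := M →* ℂˣ) φ l, ⁅a, b⁆ ∈ M) := by
    intro l
    set T := stabSub (X := M →* ℂˣ) φ l with hT
    by_cases hT1 : T = ⊤
    · exact Or.inl hT1
    refine Or.inr ?_
    obtain ⟨e, he⟩ := hext l T (hMle l) le_rfl
    have hiff : ∀ g : G, g ∈ T ↔ ∀ v : M, l (MulAut.conjNormal g v) = l v := fun g => by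
      rw [hT, mem_stabSub, hφ, dualAct_eq_iff]
    have hne1 : T.index ≠ 1 := fun e => hT1 (Subgroup.index_eq_one.1 e)
    have hβ : ∀ β : Cfsg.IrrCharacter (T ⧸ M.subgroupOf T),
        T.index * Cfsg.charDegree (β : T ⧸ M.subgroupOf T → ℂ) = m := fun β => by
      obtain ⟨χ, hχ⟩ := degree_mem_linear M l T hiff (hMle l) e he β
      rcases hcd χ with h | h
      · rw [h] at hχ
        exact absurd (Nat.eq_one_of_mul_eq_one_right hχ.symm) hne1
      · exact hχ.symm.trans h
    have hTi : T.index = m := by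
      have := hβ ⟨_, isIrrCharacter_linear 1⟩
      rwa [charDegree_linear, mul_one] at this
    have hTM : ∀ a ∈ T, ∀ b ∈ T, ⁅a, b⁆ ∈ M := by
      intro a ha b hb
      have hc := ItoPSolvable.comm_of_linear (G := T ⧸ M.subgroupOf T) fun β => by
        have := hβ β
        rw [hTi] at this
        exact Nat.eq_of_mul_eq_mul_left (Nat.pos_of_ne_zero (hTi ▸ Subgroup.index_ne_zero_of_finite))
          (this.trans (mul_one m).symm)
      have h1 : QuotientGroup.mk' (M.subgroupOf T) ⁅(⟨a, ha⟩ : T), ⟨b, hb⟩⁆ = 1 := by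
        rw [map_commutatorElement, commutatorElement_eq_one_iff_mul_comm]
        exact hc.is_comm.comm _ _
      exact Subgroup.mem_subgroupOf.1 ((QuotientGroup.eq_one_iff _).1 h1)
    refine ⟨hTi, ?_, hTM⟩
    rcases hcase with hc | ⟨p, e', k, hp, -, hk⟩
    · exact hc.trans (hMle l)
    · haveI := Fact.mk hp
      haveI : Group.IsNilpotent (G ⧸ M) :=
        (IsPGroup.of_card (p := p) (n := k) (by rw [← Subgroup.index_eq_card, hk])).isNilpotent
      set π := QuotientGroup.mk' M with hπ
      have e1 : T = (T.map π).comap π := by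
        rw [Subgroup.comap_map_eq, QuotientGroup.ker_mk', sup_eq_left.2 (hMle l)]
      have h1 := commutator_le_of_abelian_index (G := G ⧸ M) (m := m) (fun β => ?_) (T.map π) ?_ ?_
      · rw [e1, ← Subgroup.map_le_iff_le_comap, _root_.commutator, Subgroup.map_commutator,
          Subgroup.map_top_of_surjective _ (QuotientGroup.mk'_surjective M)]
        exact h1
      · haveI := Fintype.ofFinite (G ⧸ M)
        haveI := Fintype.ofFinite G
        have hirr : Cfsg.IsIrrCharacter G ((β : G ⧸ M → ℂ) ∘ π) :=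
          isIrrCharacter_comp_surjective π (QuotientGroup.mk'_surjective M) β.2
        have hdeg : Cfsg.charDegree ((β : G ⧸ M → ℂ) ∘ π) = Cfsg.charDegree (β : G ⧸ M → ℂ) :=
          Nat.cast_injective (R := ℂ) (by
            rw [Degrees.charDegree_cast β, Degrees.charDegree_cast ⟨_, hirr⟩]
            simp)
        exact hdeg ▸ hcd ⟨_, hirr⟩
      · rintro _ ⟨a, ha, rfl⟩ _ ⟨b, hb, rfl⟩
        rw [← commutatorElement_eq_one_iff_mul_comm, ← map_commutatorElement]
        exact (QuotientGroup.eq_one_iff _).2 (hTM a ha b hb)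
      · rw [← Subgroup.index_comap_of_surjective _ (QuotientGroup.mk'_surjective M), ← e1, hTi]
  by_cases hmoved : ∃ l : M →* ℂˣ, stabSub (X := M →* ℂˣ) φ l ≠ ⊤
  · left
    obtain ⟨l0, hl0⟩ := hmoved
    obtain ⟨hTi, hTc, hTM⟩ := (hstab l0).resolve_left hl0
    set T := stabSub (X := M →* ℂˣ) φ l0 with hT
    have hact : ∀ g h : G, φ g * φ h = φ h * φ g := fun g h => by
      rw [← commutatorElement_eq_one_iff_mul_comm, ← map_commutatorElement]
      refine MulEquiv.ext fun l => ?_
      rw [MulAut.one_apply]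
      refine mem_stabSub.1 (?_ : ⁅g, h⁆ ∈ stabSub (X := M →* ℂˣ) φ l)
      rcases hstab l with h1 | ⟨-, h1, -⟩
      · rw [h1]; exact Subgroup.mem_top _
      · exact h1 (Subgroup.commutator_mem_commutator (Subgroup.mem_top _) (Subgroup.mem_top _))
    have hcop' : Nat.Coprime (Nat.card φ.range) (Nat.card (M →* ℂˣ)) := by
      rw [card_dual, ← Subgroup.index_ker]
      refine Nat.Coprime.coprime_dvd_left (Subgroup.index_dvd_of_le ?_) hcop.symm
      exact fun x hx => MonoidHom.mem_ker.2 (MulEquiv.ext fun l => mem_stabSub.1 (hMle l hx))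
    have hall : ∀ l : M →* ℂˣ, T ≤ stabSub (X := M →* ℂˣ) φ l := by
      intro l
      by_cases hl : stabSub (X := M →* ℂˣ) φ l = ⊤
      · rw [hl]; exact le_top
      · exact (stab_unique (L := M →* ℂˣ) φ hact hcop' (fun l => (hstab l).imp_right And.left)
          hl0 hl).le
    refine ⟨T, Subgroup.Normal.of_commutator_le G hTc, fun a ha b hb => ?_, hTi, hTc⟩
    rw [← commutatorElement_eq_one_iff_mul_comm]
    haveI : NeZero (Monoid.exponent M) := ⟨Monoid.exponent_ne_zero_of_finite⟩
    refine congrArg Subtype.val (show (⟨⁅a, b⁆, hTM a ha b hb⟩ : M) = 1 from ?_)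
    refine (CommGroup.forall_apply_eq_apply_iff (M := ℂ) (G := M)).1 fun l => ?_
    obtain ⟨e, he⟩ := hext l T (hMle l0) (hall l)
    rw [← he, map_one l, show (⟨⁅a, b⁆, hMle l0 (hTM a ha b hb)⟩ : T) = ⁅(⟨a, ha⟩ : T), ⟨b, hb⟩⁆
      from rfl, map_commutatorElement, commutatorElement_eq_one_iff_mul_comm]
    exact mul_comm _ _
  push Not at hmoved
  have hcen : M ≤ Subgroup.center G := fun x hx => Subgroup.mem_center_iff.2 fun g =>
    (Subgroup.mem_centralizer_iff.1 (centralizes_of_dual M fun l =>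
      mem_stabSub.1 (hmoved l ▸ Subgroup.mem_top g : g ∈ stabSub (X := M →* ℂˣ) φ l)) x hx).symm
  rcases hcase with hc | ⟨p, e, k, hp, hme, hk⟩
  · exfalso
    obtain ⟨χ, hχ⟩ := hm
    haveI : NeZero (Monoid.exponent M) := ⟨Monoid.exponent_ne_zero_of_finite⟩
    refine hm1 (hχ ▸ ?_)
    have hab : ∀ a b : G, a * b = b * a := by
      intro a b
      rw [← commutatorElement_eq_one_iff_mul_comm]
      have hab' : ⁅a, b⁆ ∈ M :=
        hc (Subgroup.commutator_mem_commutator (Subgroup.mem_top _) (Subgroup.mem_top _))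
      refine congrArg Subtype.val (show (⟨⁅a, b⁆, hab'⟩ : M) = 1 from ?_)
      refine (CommGroup.forall_apply_eq_apply_iff (M := ℂ) (G := M)).1 fun l => ?_
      obtain ⟨e, he⟩ := hext l ⊤ le_top (hmoved l).ge
      rw [← he, map_one l, show (⟨⁅a, b⁆, Subgroup.mem_top _⟩ : (⊤ : Subgroup G)) =
        ⁅(⟨a, Subgroup.mem_top _⟩ : (⊤ : Subgroup G)), ⟨b, Subgroup.mem_top _⟩⁆ from rfl,
        map_commutatorElement, commutatorElement_eq_one_iff_mul_comm]
      exact mul_comm _ _
    obtain ⟨d, hd, hdvd⟩ := CharTheory.Ito.degree_dvd_index_abelian (⊤ : Subgroup G)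
      (fun a _ b _ => hab a b) χ.2
    rw [Subgroup.index_top, Nat.dvd_one] at hdvd
    exact Nat.cast_injective (R := ℂ) ((Degrees.charDegree_cast χ).trans (hd.trans (by rw [hdvd])))
  · right
    haveI := Fact.mk hp
    haveI : Group.IsNilpotent (G ⧸ M) :=
      (IsPGroup.of_card (p := p) (n := k) (by rw [← Subgroup.index_eq_card, hk])).isNilpotent
    have hnil : Group.IsNilpotent G :=
      Subgroup.isNilpotent_of_ker_le_center (QuotientGroup.mk' M)
        (by rw [QuotientGroup.ker_mk']; exact hcen)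
    refine ⟨hnil, p, e, hp, hme, ?_⟩
    obtain ⟨P⟩ : Nonempty (Sylow p G) := inferInstance
    have hPM : Nat.Coprime (Nat.card (P : Subgroup G)) (Nat.card M) := by
      obtain ⟨j, hj⟩ := IsPGroup.iff_card.1 P.2
      rcases Nat.eq_zero_or_pos j with rfl | hj0
      · rw [hj, pow_zero]; exact Nat.coprime_one_left _
      · rcases Nat.eq_zero_or_pos k with rfl | hk0
        · have htop := Subgroup.index_eq_one.1 (hk.trans (pow_zero p))
          exfalso
          obtain ⟨χ, hχ⟩ := hm
          obtain ⟨d, hd, hdvd⟩ := CharTheory.Ito.degree_dvd_index_abelian (⊤ : Subgroup G)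
            (fun a _ b _ => hMab a (htop ▸ Subgroup.mem_top a) b (htop ▸ Subgroup.mem_top b)) χ.2
          rw [Subgroup.index_top, Nat.dvd_one] at hdvd
          exact hm1 (hχ ▸ Nat.cast_injective (R := ℂ)
            ((Degrees.charDegree_cast χ).trans (hd.trans (by rw [hdvd]))))
        · rw [hk] at hcop
          exact hj ▸ Nat.Coprime.pow_left j ((Nat.coprime_pow_right_iff hk0 _ _).1 hcop).symm
    have hsup : (P : Subgroup G) ⊔ M = ⊤ := by
      rw [← Subgroup.index_eq_one]
      refine Nat.eq_one_of_dvd_coprimes ((hp.coprime_iff_not_dvd.2 P.not_dvd_index).pow_left k)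
        (hk ▸ Subgroup.index_dvd_of_le le_sup_right) (Subgroup.index_dvd_of_le le_sup_left)
    have hPn : (P : Subgroup G).Normal := ⟨fun a ha g => by
      obtain ⟨x, hx, y, hy, rfl⟩ : g ∈ ((P : Subgroup G) : Set G) * (M : Set G) := by
        rw [← Subgroup.mul_normal, SetLike.mem_coe, hsup]; exact Subgroup.mem_top g
      have e1 : x * y * a * (x * y)⁻¹ = x * a * x⁻¹ := by
        have h2 : y * a = a * y := (Subgroup.mem_center_iff.1 (hcen hy) a).symm
        rw [mul_assoc x, h2]; group
      rw [e1]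
      exact mul_mem (mul_mem hx ha) (inv_mem hx)⟩
    exact ⟨P, M, hPn, hMn, P.2, hMab,
      Subgroup.inf_eq_bot_of_coprime hPM, hsup⟩

/-- Taketa for two degrees. -/
theorem derived_comm_of_nilpotent [Group.IsNilpotent G] {m : ℕ}
    (hcd : ∀ χ : Cfsg.IrrCharacter G,
      Cfsg.charDegree (χ : G → ℂ) = 1 ∨ Cfsg.charDegree (χ : G → ℂ) = m) :
    ∀ a ∈ commutator G, ∀ b ∈ commutator G, a * b = b * a := by
  classical
  haveI := Fintype.ofFinite G
  have hlin : ∀ ψ : Cfsg.IrrCharacter G, Cfsg.charDegree (ψ : G → ℂ) = 1 →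
      ∀ z ∈ commutator G, (ψ : G → ℂ) z = (ψ : G → ℂ) 1 := by
    intro ψ h z hz
    obtain ⟨f, hf⟩ := ExtendChar.exists_hom (irr_isCharacter ψ)
      (show (ψ : G → ℂ) 1 = 1 by rw [← Degrees.charDegree_cast, h, Nat.cast_one])
    rw [← hf, ← hf, map_one, MonoidHom.mem_ker.1 (Abelianization.commutator_subset_ker f hz)]
  intro a ha b hb
  rw [← commutatorElement_eq_one_iff_mul_comm]
  refine eq_one_of_forall_irr fun χ => ?_
  obtain ⟨H, lam, hχH⟩ := Characters.Monomial.monomial_of_nilpotent χ.2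
  haveI := Fintype.ofFinite H
  rcases hcd χ with h | h
  · exact hlin χ h _ (Subgroup.commutator_le_left (commutator G) (commutator G)
      (Subgroup.commutator_mem_commutator ha hb))
  have hidx : H.index = m := by
    have h1 := Degrees.charDegree_cast χ
    rw [h, hχH, indFun_one, map_one, Units.val_one, mul_one] at h1
    exact (Nat.cast_injective (R := ℂ) h1).symm
  have hDH : commutator G ≤ H := by
    intro z hz
    set ξ : G → ℂ := Cfsg.indFun H (fun _ => 1) with hξ
    have hξc : Cfsg.IsCharacter G ξ := isCharacter_indFun H isCharacter_one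
    haveI := Fintype.ofFinite (Cfsg.IrrCharacter G)
    have htriv : Cfsg.classInner ξ (fun _ => 1) = 1 := by
      have hcl1 : Cfsg.IsClassFunction G fun _ => (1 : ℂ) := fun _ _ => rfl
      rw [hξ, frobenius_reciprocity H _ hcl1]
      exact classInner_isIrr_self isIrrCharacter_one
    have hξ1c : Cfsg.IsCharacter G (ξ - fun _ => 1) := by
      refine isCharacter_of_classInner_nat (fun a b => ?_) fun ψ hψ => ?_
      · simp [indFun_isClassFunction H (fun _ => 1) a b, hξ]
      · rw [classInner_sub_left]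
        by_cases h1 : ψ = fun _ => 1
        · subst h1
          exact ⟨0, by rw [htriv, classInner_isIrr_self isIrrCharacter_one]; simp⟩
        · obtain ⟨n, hn⟩ := classInner_char_nat hξc (isCharacter_of_isIrr hψ)
          exact ⟨n, by rw [classInner_isIrr_ne isIrrCharacter_one hψ (Ne.symm h1), sub_zero, hn]⟩
    have hker : ∀ ψ : Cfsg.IrrCharacter G, Cfsg.classInner ξ (ψ : G → ℂ) ≠ 0 →
        (ψ : G → ℂ) z = (ψ : G → ℂ) 1 := by
      intro ψ hne
      by_cases h1 : (ψ : G → ℂ) = fun _ => 1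
      · rw [h1]
      refine hlin ψ ((hcd ψ).resolve_right fun hψm => ?_) z hz
      have h3 := irr_degree_le hξ1c ψ.2 (by
        rw [classInner_sub_left, classInner_isIrr_ne isIrrCharacter_one ψ.2 (Ne.symm h1), sub_zero]
        exact hne)
      rw [← Degrees.charDegree_cast, hψm, Pi.sub_apply, hξ, indFun_one, mul_one, hidx,
        Complex.sub_re, Complex.natCast_re, Complex.one_re] at h3
      linarith
    have hξz : ξ z = ξ 1 := by
      have hexp := classFun_eq_sum (char_isClassFunction hξc)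
      rw [hexp]
      simp only [Finset.sum_apply, Pi.smul_apply, smul_eq_mul]
      refine Finset.sum_congr rfl fun ψ _ => ?_
      by_cases h0 : Cfsg.classInner ξ (ψ : G → ℂ) = 0
      · rw [h0, zero_mul, zero_mul]
      · rw [hker ψ h0]
    rw [hξ, IndBasic.indFun_one_eq_card_fixed, indFun_one, mul_one, Nat.cast_inj,
      H.index_eq_card] at hξz
    have hall : ∀ c : G ⧸ H, z • c = c := by
      intro c
      by_contra hc
      haveI := Fintype.ofFinite (G ⧸ H)
      have hlt := Fintype.card_subtype_lt (p := fun c : G ⧸ H => z • c = c) (x := c) hc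
      simp only [← Nat.card_eq_fintype_card] at hlt
      omega
    have h1 : ((z * 1 : G) : G ⧸ H) = ((1 : G) : G ⧸ H) := hall ((1 : G) : G ⧸ H)
    rw [QuotientGroup.eq] at h1
    simpa using h1
  have hw : ∀ a ∈ commutator G, ∀ b ∈ commutator G, ∀ (hab : ⁅a, b⁆ ∈ H),
      lam ⟨⁅a, b⁆, hab⟩ = 1 := fun a ha b hb hab => by
    rw [show (⟨⁅a, b⁆, hab⟩ : H) = ⁅(⟨a, hDH ha⟩ : H), ⟨b, hDH hb⟩⁆ from rfl,
      map_commutatorElement, commutatorElement_eq_one_iff_mul_comm]
    exact mul_comm _ _
  rw [hχH, indFun_one, map_one, Units.val_one, mul_one]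
  apply mul_left_cancel₀ (natCard_ne_zero (G := H))
  rw [IndBasic.card_mul_indFun, Finset.sum_congr rfl (g := fun _ => (1 : ℂ)) fun y _ => ?_]
  · rw [Finset.sum_const, Finset.card_univ, nsmul_one, ← Nat.card_eq_fintype_card,
      ← Nat.cast_mul, H.card_mul_index]
  · have hca : y⁻¹ * a * y ∈ commutator G := by
      simpa using Subgroup.Normal.conj_mem inferInstance a ha y⁻¹
    have hcb : y⁻¹ * b * y ∈ commutator G := by
      simpa using Subgroup.Normal.conj_mem inferInstance b hb y⁻¹
    have e1 : y⁻¹ * ⁅a, b⁆ * y = ⁅y⁻¹ * a * y, y⁻¹ * b * y⁆ := by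
      simp only [commutatorElement_def]; group
    have hin : ⁅y⁻¹ * a * y, y⁻¹ * b * y⁆ ∈ H :=
      hDH (Subgroup.commutator_le_left (commutator G) (commutator G)
        (Subgroup.commutator_mem_commutator hca hcb))
    rw [e1, IndBasic.extendByZero_of_mem H _ hin, hw _ hca _ hcb hin, Units.val_one]

end Cfsg.Agent.BlocksChars.TwoDegrees
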