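import Cfsg.Agent.S4456
import Cfsg.Agent.BlocksChars.TwoDegrees.Orbit
import Cfsg.Agent.BlocksChars.DerivedLength
import Cfsg.Agent.Lib.Cores.Nilpotent
import Cfsg.Agent.Lib.CharTheory.ExtendChar
import Cfsg.Agent.Lib.CN.Degree
import Cfsg.Agent.S0897

/-!
# Groups with character degrees `1` and a prime `p`
-/

set_option autoImplicit false
set_option linter.style.haveILetI false

namespace Cfsg.Agent.BlocksChars.TwoDegrees

open Cfsg.Agent.Characters Cfsg.Agent.CharTheory Cfsg.Agent.BlocksChars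
open Cfsg.Agent.BlocksChars.Palfy
open scoped commutatorElement IsMulCommutative

universe u

variable {G : Type u} [Group G] [Finite G]

/-- A maximal abelian normal subgroup with `p`-power index, self-centralizing. -/
theorem exists_self_centralizing {p : ℕ} [Fact p.Prime]
    (hcd : ∀ χ : Cfsg.IrrCharacter G,
      Cfsg.charDegree (χ : G → ℂ) = 1 ∨ Cfsg.charDegree (χ : G → ℂ) = p) :
    ∃ N A : Subgroup G, (Nat.card N).Coprime p ∧ N ≤ A ∧ A.Normal ∧ IsMulCommutative A ∧
      (∃ j, A.index = p ^ j) ∧ (∀ g : G, (∀ a ∈ A, g * a = a * g) → g ∈ A) ∧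
      ∀ B : Subgroup G, N ≤ B → B.Normal → IsMulCommutative B → Nat.card B ≤ Nat.card A := by
  classical
  have hp : p.Prime := Fact.out
  obtain ⟨N, hN, hNcop, e, hNi⟩ := Cfsg.Agent.S4456.result p hp fun χ hχ => by
    rw [(hcd χ).resolve_left hχ]
  haveI := hN
  have hNab : IsMulCommutative N := by
    refine ItoPSolvable.comm_of_linear fun θ => ?_
    haveI := Fintype.ofFinite N
    obtain ⟨χ, hχ, -⟩ := ItoPSolvable.exists_over N θ
    have hdvd := Degrees.charDegree_dvd_card θ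
    rcases hcd χ with h1 | h1
    · exact Nat.dvd_one.1 (h1 ▸ hχ)
    · rcases (Nat.dvd_prime hp).1 (h1 ▸ hχ) with h2 | h2
      · exact h2
      · exact absurd (Nat.Coprime.eq_one_of_dvd hNcop.symm (h2 ▸ hdvd)) hp.ne_one
  haveI := Fintype.ofFinite (Subgroup G)
  let S : Finset (Subgroup G) :=
    Finset.univ.filter fun A => N ≤ A ∧ A.Normal ∧ IsMulCommutative A
  have hS : ∀ A, A ∈ S ↔ N ≤ A ∧ A.Normal ∧ IsMulCommutative A := fun A => by simp [S]
  obtain ⟨A, hA, hAmax⟩ := S.exists_max_image (fun A => Nat.card A)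
    ⟨N, (hS N).2 ⟨le_rfl, hN, hNab⟩⟩
  obtain ⟨hNA, hAn, hAc⟩ := (hS A).1 hA
  haveI := hAn
  haveI := hAc
  obtain ⟨j, -, hj⟩ := (Nat.dvd_prime_pow hp).1 (hNi ▸ Subgroup.index_dvd_of_le hNA)
  refine ⟨N, A, hNcop, hNA, hAn, hAc, ⟨j, hj⟩, fun g hg => ?_,
    fun B h1 h2 h3 => hAmax B ((hS B).2 ⟨h1, h2, h3⟩)⟩
  by_contra hgA
  set C := Subgroup.centralizer (A : Set G) with hCdef
  have hgC : g ∈ C := Subgroup.mem_centralizer_iff.2 fun a ha => (hg a ha).symm
  have hCq : C.map (QuotientGroup.mk' A) ≠ ⊥ := fun e => hgA ((QuotientGroup.eq_one_iff g).1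
    (Subgroup.mem_bot.1 (e ▸ Subgroup.mem_map_of_mem _ hgC :
      QuotientGroup.mk' A g ∈ (⊥ : Subgroup (G ⧸ A)))))
  haveI : Group.IsNilpotent (G ⧸ A) :=
    (IsPGroup.of_card (p := p) (n := j) (by rw [← Subgroup.index_eq_card, hj])).isNilpotent
  haveI : (C.map (QuotientGroup.mk' A)).Normal :=
    Subgroup.Normal.map inferInstance _ (QuotientGroup.mk'_surjective A)
  obtain ⟨⟨w, ⟨x, hx, rfl⟩, hwz⟩, hw1⟩ := (Subgroup.ne_bot_iff_exists_ne_one).1
    (Cfsg.Agent.Cores.inf_center_ne_bot hCq)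
  have hxA : x ∉ A := fun h => hw1 (Subtype.ext ((QuotientGroup.eq_one_iff x).2 h))
  have hxc : ∀ a ∈ A, x * a = a * x := fun a ha =>
    (Subgroup.mem_centralizer_iff.1 hx a ha).symm
  have hBn : (A ⊔ Subgroup.zpowers x).Normal := by
    have e1 : A ⊔ Subgroup.zpowers x =
        (Subgroup.zpowers (QuotientGroup.mk' A x)).comap (QuotientGroup.mk' A) := by
      rw [← MonoidHom.map_zpowers, Subgroup.comap_map_eq, QuotientGroup.ker_mk', sup_comm]
    rw [e1]
    refine Subgroup.Normal.comap ⟨fun u hu v => ?_⟩ _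
    obtain ⟨i, rfl⟩ := Subgroup.mem_zpowers_iff.1 hu
    rw [Subgroup.mem_center_iff.1 ((Subgroup.center _).zpow_mem hwz i) v, mul_inv_cancel_right]
    exact Subgroup.zpow_mem_zpowers _ _
  have hBc : IsMulCommutative (A ⊔ Subgroup.zpowers x : Subgroup G) := by
    rw [← Subgroup.closure_eq A, Subgroup.zpowers_eq_closure, ← Subgroup.closure_union]
    refine Subgroup.isMulCommutative_closure fun u hu v hv => ?_
    rcases hu with hu | rfl <;> rcases hv with hv | rfl
    · exact congrArg Subtype.val (hAc.is_comm.comm (⟨u, hu⟩ : A) ⟨v, hv⟩)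
    · exact (hxc u hu).symm
    · exact hxc v hv
    · rfl
  have h1 := hAmax _ ((hS _).2 ⟨hNA.trans le_sup_left, hBn, hBc⟩)
  exact hxA (Subgroup.eq_of_le_of_card_ge (le_sup_left : A ≤ A ⊔ Subgroup.zpowers x) h1 ▸
    le_sup_right (a := A) (Subgroup.mem_zpowers x))

/-- Stabilisers of linear characters of `A` are normal of index `p`. -/
theorem stab_cases {p : ℕ} [Fact p.Prime]
    (hcd : ∀ χ : Cfsg.IrrCharacter G,
      Cfsg.charDegree (χ : G → ℂ) = 1 ∨ Cfsg.charDegree (χ : G → ℂ) = p)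
    (A : Subgroup G) [A.Normal] [IsMulCommutative A] {j : ℕ} (hj : A.index = p ^ j)
    (l : A →* ℂˣ) :
    A ≤ stabSub (X := A →* ℂˣ) (dualAct A) l ∧
      (stabSub (X := A →* ℂˣ) (dualAct A) l = ⊤ ∨
      ((stabSub (X := A →* ℂˣ) (dualAct A) l).Normal ∧
        (stabSub (X := A →* ℂˣ) (dualAct A) l).index = p)) := by
  classical
  have hp : p.Prime := Fact.out
  haveI := Fintype.ofFinite A
  set T := stabSub (X := A →* ℂˣ) (dualAct A) l with hTdef
  have hAT : A ≤ T := fun x hx => by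
    rw [hTdef, mem_stabSub, dualAct_eq_iff]
    intro v
    refine congrArg l (Subtype.ext ?_)
    have := congrArg Subtype.val (mul_comm (⟨x, hx⟩ : A) v)
    simp only [Subgroup.coe_mul] at this
    rw [MulAut.conjNormal_apply, this, mul_inv_cancel_right]
  refine ⟨hAT, ?_⟩
  have hin : ItoPSolvable.inertia A (fun a => (l a : ℂ)) = T := by
    ext g
    show Clifford.conjBy A g _ = _ ↔ _
    rw [hTdef, mem_stabSub, dualAct_eq_iff, funext_iff]
    refine forall_congr' fun v => ?_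
    rw [Clifford.conjBy_apply, Units.val_inj]
    exact Iff.of_eq (congrArg (fun a => l a = l v) (Subtype.ext (by simp)))
  obtain ⟨χ, -, hχ⟩ := ItoPSolvable.exists_over A ⟨_, isIrrCharacter_linear l⟩
  rw [show ItoPSolvable.inertia A ((⟨_, isIrrCharacter_linear l⟩ : Cfsg.IrrCharacter A) : A → ℂ)
    = T from hin] at hχ
  by_cases hT1 : T = ⊤
  · exact Or.inl hT1
  refine Or.inr ?_
  have hTi : T.index = p := by
    have hne1 : T.index ≠ 1 := fun e => hT1 (Subgroup.index_eq_one.1 e)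
    rcases hcd χ with h1 | h1
    · exact absurd (Nat.dvd_one.1 (h1 ▸ hχ)) hne1
    · exact ((Nat.dvd_prime hp).1 (h1 ▸ hχ)).resolve_left hne1
  refine ⟨?_, hTi⟩
  have e1 : T = (T.map (QuotientGroup.mk' A)).comap (QuotientGroup.mk' A) := by
    rw [Subgroup.comap_map_eq, QuotientGroup.ker_mk', sup_eq_left.2 hAT]
  have hidx : (T.map (QuotientGroup.mk' A)).index = p := by
    rw [← hTi]
    conv_rhs => rw [e1]
    rw [Subgroup.index_comap_of_surjective _ (QuotientGroup.mk'_surjective A)]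
  haveI : Group.IsNilpotent (G ⧸ A) :=
    (IsPGroup.of_card (p := p) (n := j) (by rw [← Subgroup.index_eq_card, hj])).isNilpotent
  have hn : (T.map (QuotientGroup.mk' A)).Normal :=
    Subgroup.NormalizerCondition.normal_of_coatom _ Group.normalizerCondition_of_isNilpotent (by
      refine ⟨fun e => ?_, fun B hB => ?_⟩
      · rw [e, Subgroup.index_top] at hidx; exact hp.ne_one hidx.symm
      · have hd := Subgroup.index_dvd_of_le hB.le
        rw [hidx] at hd
        rcases (Nat.dvd_prime hp).1 hd with h2 | h2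
        · exact Subgroup.index_eq_one.1 h2
        · exact absurd (eq_of_le_of_index_eq hB.le (hidx.trans h2.symm)) hB.ne)
  rw [e1]
  exact hn.comap _

/-- A linear character of `A` with stabiliser `T` of index `p` extends to a linear one of `T`. -/
theorem extends_to_stab {p : ℕ} [Fact p.Prime]
    (hcd : ∀ χ : Cfsg.IrrCharacter G,
      Cfsg.charDegree (χ : G → ℂ) = 1 ∨ Cfsg.charDegree (χ : G → ℂ) = p)
    (A : Subgroup G) [A.Normal] (l : A →* ℂˣ) (T : Subgroup G) [T.Normal] (hAT : A ≤ T)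
    (hT : ∀ g : G, g ∈ T ↔ ∀ v : A, l (MulAut.conjNormal g v) = l v) (hTi : T.index = p) :
    ∃ f : T →* ℂˣ, ∀ v : A, f ⟨v, hAT v.2⟩ = l v := by
  classical
  have hp : p.Prime := Fact.out
  haveI := Fintype.ofFinite (A.subgroupOf T)
  haveI := Fintype.ofFinite T
  let l' : A.subgroupOf T →* ℂˣ := l.comp (Subgroup.subgroupOfEquivOfLe hAT).toMonoidHom
  obtain ⟨θ, hθ⟩ := DerivedLength.exists_over_constituent (A.subgroupOf T)
    ⟨_, isIrrCharacter_linear l'⟩
  have hinv : ∀ t : T, Clifford.conjBy (A.subgroupOf T) t (fun a => (l' a : ℂ)) =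
      fun a => (l' a : ℂ) := fun t => by
    funext a
    rw [Clifford.conjBy_apply, Units.val_inj]
    refine Eq.trans (congrArg l (Subtype.ext ?_))
      ((hT (t : G)).1 t.2 ⟨((a : T) : G), a.2⟩)
    simp
  have hres := Clifford.restrict_eq_smul_of_invariant (A.subgroupOf T) θ.2
    (isIrrCharacter_linear l') hθ hinv
  set c := Cfsg.classInner (fun n : A.subgroupOf T => (θ : T → ℂ) n) (fun a => (l' a : ℂ)) with hc
  have hv : ∀ v : A, (θ : T → ℂ) ⟨v, hAT v.2⟩ = (θ : T → ℂ) 1 * (l v : ℂ) := by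
    intro v
    have h1 := congrFun hres ⟨⟨(v : G), hAT v.2⟩, v.2⟩
    have h2 := congrFun hres 1
    simp only [Pi.smul_apply, smul_eq_mul, OneMemClass.coe_one, map_one, Units.val_one,
      mul_one] at h1 h2
    rw [h1, h2]
    rfl
  have hind : ∀ g : G, g ∈ T ↔ Clifford.conjBy T g (θ : T → ℂ) = θ := by
    intro g
    constructor
    · intro hg
      funext t
      rw [Clifford.conjBy_apply]
      exact irr_isClassFunction θ t ⟨g, hg⟩
    · intro hfix
      rw [hT]
      intro v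
      have h1 := congrFun hfix ⟨(v : G), hAT v.2⟩
      rw [Clifford.conjBy_apply] at h1
      refine Units.ext (mul_left_cancel₀ (irr_one_ne_zero θ.2) ?_)
      rw [← hv, ← hv]
      refine Eq.trans (congrArg _ (Subtype.ext ?_)) h1
      simp
  have hdeg := Palfy.degree_mem T θ.2 T hind le_rfl (θ : T → ℂ) θ.2 (fun n => rfl)
    ⟨_, isIrrCharacter_linear 1⟩
  rw [charDegree_linear, mul_one, hTi] at hdeg
  obtain ⟨χ, hχ⟩ := hdeg
  have hθ1 : Cfsg.charDegree (θ : T → ℂ) = 1 := by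
    rcases hcd χ with h1 | h1
    · rw [h1] at hχ
      exact absurd (Nat.eq_one_of_mul_eq_one_right hχ.symm) hp.ne_one
    · rw [h1] at hχ
      exact Nat.eq_of_mul_eq_mul_left hp.pos (hχ.symm.trans (mul_one p).symm)
  have hθ1' : (θ : T → ℂ) 1 = 1 := by rw [← Degrees.charDegree_cast, hθ1, Nat.cast_one]
  obtain ⟨f, hf⟩ := ExtendChar.exists_hom (irr_isCharacter θ) hθ1'
  refine ⟨f, fun v => Units.ext ?_⟩
  rw [hf, hv, hθ1', one_mul]

/-- The hard direction. -/
theorem forward {p : ℕ} [Fact p.Prime] (hG : ∃ a b : G, a * b ≠ b * a)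
    (hcd : ∀ χ : Cfsg.IrrCharacter G,
      Cfsg.charDegree (χ : G → ℂ) = 1 ∨ Cfsg.charDegree (χ : G → ℂ) = p) :
    (∃ A : Subgroup G, A.Normal ∧ (∀ a ∈ A, ∀ b ∈ A, a * b = b * a) ∧ A.index = p) ∨
      (Subgroup.center G).index = p ^ 3 := by
  classical
  have hp : p.Prime := Fact.out
  by_contra hcon
  push Not at hcon
  obtain ⟨hno, hno3⟩ := hcon
  obtain ⟨N, A, hNcop, hNA, hAn, hAc, ⟨m, hm⟩, hC, hbig⟩ := exists_self_centralizing hcd
  haveI := hAn
  haveI := hAc
  have hAcomm : ∀ a ∈ A, ∀ b ∈ A, a * b = b * a := fun a ha b hb =>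
    congrArg Subtype.val (mul_comm (⟨a, ha⟩ : A) ⟨b, hb⟩)
  have hAne : A ≠ ⊤ := fun e => by
    obtain ⟨a, b, hab⟩ := hG
    exact hab (hAcomm a (e ▸ Subgroup.mem_top a) b (e ▸ Subgroup.mem_top b))
  haveI := finite_dual A
  have hstab := fun l : A →* ℂˣ => stab_cases hcd A hm l
  rcases orbit_dichotomy (L := A →* ℂˣ) (φ := dualAct A) hp (fun l => (hstab l).2) with
    ⟨M, hM, hMfix⟩ | ⟨z, hz1, hzp, hzfix, hzl⟩
  · have hMA : M ≤ A := fun g hg => hC g fun a ha =>
      (Subgroup.mem_centralizer_iff.1 (centralizes_of_dual A (hMfix g hg)) a ha).symm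
    rcases hM with rfl | hM
    · exact hAne (top_le_iff.1 hMA)
    · refine hno A hAn hAcomm ?_
      rcases (Nat.dvd_prime hp).1 (hM ▸ Subgroup.index_dvd_of_le hMA) with h1 | h1
      · exact absurd (Subgroup.index_eq_one.1 h1) hAne
      · exact h1
  set Z := Subgroup.center G with hZdef
  have hZA : Z ≤ A := fun g hg => hC g fun a _ => (Subgroup.mem_center_iff.1 hg a).symm
  have hzinv : ∀ (g : G) (v : A), z (MulAut.conjNormal g v) = z v := fun g =>
    (dualAct_eq_iff A g z).1 (hzfix g)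
  haveI : NeZero (Monoid.exponent A) := ⟨Monoid.exponent_ne_zero_of_finite⟩
  have hker : ∀ a : A, z a = 1 → (a : G) ∈ Z := by
    intro a ha
    refine Subgroup.mem_center_iff.2 fun g => ?_
    have h1 := congrArg Subtype.val ((CommGroup.forall_apply_eq_apply_iff (M := ℂ) (G := A)
      (g := MulAut.conjNormal g a) (g' := a)).1 fun l => by
      obtain ⟨i, hi⟩ := Subgroup.mem_zpowers_iff.1 (hzl l g⁻¹)
      have h2 := congrArg (fun w : A →* ℂˣ => w a) hi
      simp only [MonoidHom.div_apply, dualAct_apply, inv_inv, MonoidHom.zpow_apply, ha,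
        one_zpow] at h2
      exact div_eq_one.1 h2.symm)
    rw [MulAut.conjNormal_apply] at h1
    exact mul_inv_eq_iff_eq_mul.1 h1
  obtain ⟨a0, ha0⟩ : ∃ a : A, z a ≠ 1 := by
    by_contra hh
    push Not at hh
    exact hz1 (MonoidHom.ext hh)
  have hzrange : ∀ a : A, (z a) ^ p = 1 := fun a => by
    have := congrArg (fun w : A →* ℂˣ => w a) hzp
    simpa using this
  have hz_pow : ∀ a : A, ∃ i : ℕ, z a0 ^ i = z a := by
    intro a
    have hprim : IsPrimitiveRoot ((z a0 : ℂˣ) : ℂ) p :=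
      IsPrimitiveRoot.coe_units_iff.2
        (IsPrimitiveRoot.iff_orderOf.2 (orderOf_eq_prime (hzrange a0) ha0))
    obtain ⟨i, -, hi⟩ := hprim.eq_pow_of_pow_eq_one (ξ := ((z a : ℂˣ) : ℂ))
      (by rw [← Units.val_pow_eq_pow_val, hzrange, Units.val_one])
    exact ⟨i, Units.ext (by rw [Units.val_pow_eq_pow_val, hi])⟩
  have hAidx : ∀ a : A, ∃ i : ℤ, (a : G) * ((a0 : G) ^ i)⁻¹ ∈ Z := by
    intro a
    obtain ⟨i, hi⟩ := hz_pow a
    refine ⟨(i : ℤ), ?_⟩
    have h1 := hker (a * (a0 ^ i)⁻¹) (by rw [map_mul, map_inv, map_pow, hi, mul_inv_cancel])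
    simpa using h1
  have hcz : ∀ g : G, ⁅g, (a0 : G)⁆ ∈ Z := by
    intro g
    have h1 := hker (MulAut.conjNormal g a0 * a0⁻¹)
      (by rw [map_mul, map_inv, hzinv, mul_inv_cancel])
    simpa [commutatorElement_def] using h1
  have hcent : ∀ g x : G, x * ⁅g, (a0 : G)⁆ = ⁅g, (a0 : G)⁆ * x := fun g x =>
    Subgroup.mem_center_iff.1 (hcz g) x
  let φ : G →* G :=
    { toFun := fun g => ⁅g, (a0 : G)⁆
      map_one' := commutatorElement_one_left _
      map_mul' := fun g h => by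
        calc ⁅g * h, (a0 : G)⁆ = g * ⁅h, (a0 : G)⁆ * g⁻¹ * ⁅g, (a0 : G)⁆ := by
              simp only [commutatorElement_def]; group
          _ = ⁅h, (a0 : G)⁆ * ⁅g, (a0 : G)⁆ := by rw [hcent h g, mul_inv_cancel_right]
          _ = ⁅g, (a0 : G)⁆ * ⁅h, (a0 : G)⁆ := hcent g _ }
  have hφdef : ∀ g : G, φ g = ⁅g, (a0 : G)⁆ := fun g => rfl
  have hφA : φ.ker = A := by
    ext g
    rw [MonoidHom.mem_ker, hφdef, commutatorElement_eq_one_iff_mul_comm]
    constructor
    · intro hg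
      refine hC g fun a ha => ?_
      obtain ⟨i, hi⟩ := hAidx ⟨a, ha⟩
      have h2 : Commute g (a * ((a0 : G) ^ i)⁻¹) := Subgroup.mem_center_iff.1 hi g
      have h3 := h2.mul_right ((show Commute g (a0 : G) from hg).zpow_right i)
      rwa [inv_mul_cancel_right] at h3
    · exact fun hg => hAcomm g hg a0 a0.2
  set W := φ.range with hW
  have hWcard : Nat.card W = A.index := by rw [hW, ← Subgroup.index_ker, hφA]
  have hZrel : Z.relIndex A = p := by
    have h1 : z.ker ≤ Z.subgroupOf A := fun a ha => hker a ha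
    have h2 : z.ker.index = p := by
      rw [Subgroup.index_ker]
      have hle : z.range = Subgroup.zpowers (z a0) := by
        refine le_antisymm ?_ (Subgroup.zpowers_le.2 ⟨a0, rfl⟩)
        rintro _ ⟨a, rfl⟩
        obtain ⟨i, hi⟩ := hz_pow a
        exact ⟨(i : ℤ), (zpow_natCast (z a0) i).trans hi⟩
      rw [hle, Nat.card_zpowers, orderOf_eq_prime (hzrange a0) ha0]
    rcases (Nat.dvd_prime hp).1 (h2 ▸ Subgroup.index_dvd_of_le h1) with h3 | h3
    · exfalso
      apply hAne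
      rw [eq_top_iff]
      intro g _
      refine hC g fun a ha => ?_
      exact Subgroup.mem_center_iff.1 (Subgroup.relIndex_eq_one.1 h3 ha) g
    · exact h3
  have hZidx : Z.index = p * A.index := by
    rw [← Subgroup.relIndex_mul_index hZA, hZrel]
  have hm3 : 3 ≤ m := by
    by_contra hlt
    rcases (by omega : m = 0 ∨ m = 1 ∨ m = 2) with rfl | rfl | rfl
    · exact hAne (Subgroup.index_eq_one.1 (by simpa using hm))
    · exact hno A hAn hAcomm (by simpa using hm)
    · exact hno3 (by rw [hZidx, hm]; ring)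
  have hp3 : p * p < p ^ m := by
    calc p * p = p ^ 2 := (sq p).symm
      _ < p ^ m := Nat.pow_lt_pow_right hp.one_lt (by omega)
  have hconj : ∀ (g : G) (i : ℤ), g * (a0 : G) ^ i * g⁻¹ = φ g ^ i * (a0 : G) ^ i := by
    intro g i
    have hbase : g * (a0 : G) * g⁻¹ = φ g * a0 := by
      rw [hφdef, commutatorElement_def]; group
    rw [← conj_zpow, hbase]
    exact Commute.mul_zpow (hcent g _).symm i
  have hWexp : ∀ g : G, φ g ^ p = 1 := by
    intro g
    have h1 := hker (a0 ^ p) (by rw [map_pow, hzrange])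
    have h2 : g * ((a0 : G) ^ p) = ((a0 : G) ^ p) * g := by
      simpa using Subgroup.mem_center_iff.1 h1 g
    have h3 := hconj g p
    rw [zpow_natCast, zpow_natCast, h2, mul_inv_cancel_right, eq_comm, mul_eq_right] at h3
    exact h3
  have hord : ∀ g : G, Nat.card (Subgroup.zpowers (φ g)) ≤ p := fun g => by
    rw [Nat.card_zpowers]
    exact Nat.le_of_dvd hp.pos (orderOf_dvd_of_pow_eq_one (hWexp g))
  have hzn : ∀ g : G, (Subgroup.zpowers (φ g)).Normal := fun g => ⟨fun u hu v => by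
    rwa [Subgroup.mem_center_iff.1 ((Subgroup.zpowers_le.2 (hcz g) : Subgroup.zpowers (φ g) ≤ Z) hu) v,
      mul_inv_cancel_right]⟩
  have hS2card : ∀ x y : G, Nat.card (Subgroup.zpowers (φ x) ⊔ Subgroup.zpowers (φ y) :
      Subgroup G) = Nat.card (Subgroup.zpowers (φ y)) *
        (Subgroup.zpowers (φ y)).relIndex (Subgroup.zpowers (φ x)) := by
    intro x y
    haveI := hzn y
    have h3 := Subgroup.relIndex_mul_relIndex (⊥ : Subgroup G) (Subgroup.zpowers (φ y))
      (Subgroup.zpowers (φ x) ⊔ Subgroup.zpowers (φ y)) bot_le le_sup_right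
    rw [Subgroup.relIndex_bot_left, Subgroup.relIndex_bot_left, Subgroup.relIndex_sup_right] at h3
    exact h3.symm
  -- commutators lie in the span
  have hspan : ∀ x y : G, ⁅x, y⁆ ∈ Subgroup.zpowers (φ x) ⊔ Subgroup.zpowers (φ y) := by
    intro x y
    by_contra hc
    set S2 := Subgroup.zpowers (φ x) ⊔ Subgroup.zpowers (φ y) with hS2
    have hxyA : ⁅x, y⁆ ∈ A := by
      rw [← hφA, MonoidHom.mem_ker, map_commutatorElement, commutatorElement_eq_one_iff_mul_comm]
      exact hcent y _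
    set S' : Subgroup A := S2.subgroupOf A with hS'
    have hWS : ¬ W ≤ S2 := by
      intro hle
      have h1 := Subgroup.card_le_of_le hle
      have h2 : Nat.card S2 ≤ p * p := by
        rw [hS2, hS2card]
        refine Nat.mul_le_mul (hord y) ((Nat.le_of_dvd Nat.card_pos ?_).trans (hord x))
        exact Subgroup.index_dvd_card _
      rw [hWcard, hm] at h1
      omega
    obtain ⟨_, ⟨g0, rfl⟩, hwS⟩ := SetLike.not_le_iff_exists.1 hWS
    have hsep : ∀ v : A, v ∉ S' → ∃ l : A →* ℂˣ, (∀ s ∈ S', l s = 1) ∧ l v ≠ 1 := by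
      intro v hv
      by_contra hh
      push Not at hh
      exact hv ((CommGroup.forall_monoidHom_apply_eq_one_iff ℂ S' v).1 hh)
    obtain ⟨l, hlS, hlc, hlw⟩ : ∃ l : A →* ℂˣ, (∀ s ∈ S', l s = 1) ∧ l ⟨⁅x, y⁆, hxyA⟩ ≠ 1 ∧
        l ⟨φ g0, hZA (hcz g0)⟩ ≠ 1 := by
      obtain ⟨l1, h11, h12⟩ := hsep ⟨⁅x, y⁆, hxyA⟩ hc
      obtain ⟨l2, h21, h22⟩ := hsep ⟨φ g0, hZA (hcz g0)⟩ hwS
      by_cases e1 : l1 ⟨φ g0, hZA (hcz g0)⟩ = 1
      · by_cases e2 : l2 ⟨⁅x, y⁆, hxyA⟩ = 1
        · exact ⟨l1 * l2, fun s hs => by rw [MonoidHom.mul_apply, h11 s hs, h21 s hs, one_mul],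
            by rwa [MonoidHom.mul_apply, e2, mul_one],
            by rwa [MonoidHom.mul_apply, e1, one_mul]⟩
        · exact ⟨l2, h21, e2, h22⟩
      · exact ⟨l1, h11, h12, e1⟩
    obtain ⟨hAT, hT'⟩ := hstab l
    set T := stabSub (X := A →* ℂˣ) (dualAct A) l with hTdef
    have hTne : T ≠ ⊤ := by
      intro htop
      apply hlw
      have h1 := (dualAct_eq_iff A g0 l).1
        (mem_stabSub.1 (htop ▸ Subgroup.mem_top g0 : g0 ∈ T)) a0
      have h2 : (⟨φ g0, hZA (hcz g0)⟩ : A) = MulAut.conjNormal g0 a0 * a0⁻¹ :=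
        Subtype.ext (by simp [hφdef, commutatorElement_def])
      rw [h2, map_mul, map_inv, h1, mul_inv_cancel]
    obtain ⟨hTn, hTi⟩ := hT'.resolve_left hTne
    haveI := hTn
    have hTiff : ∀ g : G, g ∈ T ↔ ∀ v : A, l (MulAut.conjNormal g v) = l v := fun g => by
      rw [hTdef, mem_stabSub, dualAct_eq_iff]
    have hmemT : ∀ g : G, φ g ∈ S2 → g ∈ T := by
      intro g hg
      rw [hTiff]
      intro v
      obtain ⟨i, hi⟩ := hAidx v
      have hv : MulAut.conjNormal g v = ⟨φ g ^ i, hZA (Z.zpow_mem (hcz g) i)⟩ * v := by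
        refine Subtype.ext ?_
        rw [MulAut.conjNormal_apply, Subgroup.coe_mul]
        set c := (v : G) * ((a0 : G) ^ i)⁻¹ with hcdef
        have hci : g * c * g⁻¹ = c := by
          rw [Subgroup.mem_center_iff.1 hi g, mul_inv_cancel_right]
        have hv' : (v : G) = c * (a0 : G) ^ i := by rw [hcdef]; group
        rw [hv']
        calc g * (c * (a0 : G) ^ i) * g⁻¹ = (g * c * g⁻¹) * (g * (a0 : G) ^ i * g⁻¹) := by group
          _ = c * (φ g ^ i * (a0 : G) ^ i) := by rw [hci, hconj]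
          _ = φ g ^ i * (c * (a0 : G) ^ i) := by
              rw [← mul_assoc, hφdef, Subgroup.mem_center_iff.1 (Z.zpow_mem (hcz g) i) c, mul_assoc]
      rw [hv, map_mul, hlS _ (S2.zpow_mem hg i), one_mul]
    have hxT : x ∈ T := hmemT x (Subgroup.mem_sup_left (Subgroup.mem_zpowers _))
    have hyT : y ∈ T := hmemT y (Subgroup.mem_sup_right (Subgroup.mem_zpowers _))
    obtain ⟨f, hf⟩ := extends_to_stab hcd A l T hAT hTiff hTi
    apply hlc
    rw [← hf ⟨⁅x, y⁆, hxyA⟩]
    have h4 : (⟨⁅x, y⁆, hAT hxyA⟩ : T) = ⁅(⟨x, hxT⟩ : T), ⟨y, hyT⟩⁆ := rfl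
    rw [h4, map_commutatorElement, commutatorElement_eq_one_iff_mul_comm]
    exact mul_comm _ _
  -- a larger abelian normal subgroup
  have hcommZ : ∀ x y : G, ⁅x, y⁆ ∈ Z := fun x y =>
    (sup_le (Subgroup.zpowers_le.2 (hcz x)) (Subgroup.zpowers_le.2 (hcz y)) :
      Subgroup.zpowers (φ x) ⊔ Subgroup.zpowers (φ y) ≤ Z) (hspan x y)
  have hmulL : ∀ a b c : G, ⁅a * b, c⁆ = ⁅a, c⁆ * ⁅b, c⁆ := fun a b c => by
    calc ⁅a * b, c⁆ = a * ⁅b, c⁆ * a⁻¹ * ⁅a, c⁆ := by simp only [commutatorElement_def]; group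
      _ = ⁅b, c⁆ * ⁅a, c⁆ := by
          rw [Subgroup.mem_center_iff.1 (hcommZ b c) a, mul_inv_cancel_right]
      _ = ⁅a, c⁆ * ⁅b, c⁆ := Subgroup.mem_center_iff.1 (hcommZ a c) _
  have hmulR : ∀ a b c : G, ⁅a, b * c⁆ = ⁅a, b⁆ * ⁅a, c⁆ := fun a b c => by
    rw [← commutatorElement_inv (b * c) a, hmulL, mul_inv_rev, commutatorElement_inv,
      commutatorElement_inv]
    exact Subgroup.mem_center_iff.1 (hcommZ a b) _
  have hR : ∀ (g : G) (i : ℤ), ⁅g, (a0 : G) ^ i⁆ = φ g ^ i := fun g i =>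
    map_zpow (MonoidHom.mk' (fun v => ⁅g, v⁆) (hmulR g)) (a0 : G) i
  have hsmall : ∀ g : G, ∃ x : G, x ∉ A ∧ φ x ∉ Subgroup.zpowers (φ g) := by
    intro g
    by_contra hall
    push Not at hall
    have h1 : W ≤ Subgroup.zpowers (φ g) := by
      rintro _ ⟨h, rfl⟩
      by_cases hh : h ∈ A
      · rw [← hφA, MonoidHom.mem_ker] at hh
        rw [hh]; exact one_mem _
      · exact hall h hh
    have h2 := (Subgroup.card_le_of_le h1).trans (hord g)
    rw [hWcard, hm] at h2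
    have : p ≤ p * p := Nat.le_mul_of_pos_left p hp.pos
    omega
  obtain ⟨x, hx, -⟩ := hsmall 1
  obtain ⟨y, -, hy⟩ := hsmall x
  have hc := hspan x y
  haveI := hzn y
  rw [← SetLike.mem_coe, Subgroup.mul_normal] at hc
  obtain ⟨_, ⟨i, rfl⟩, _, ⟨j, rfl⟩, hij⟩ := hc
  simp only at hij
  set x' := x * (a0 : G) ^ j with hx'
  set y' := y * (a0 : G) ^ (-i) with hy'
  have hφa : φ (a0 : G) = 1 := MonoidHom.mem_ker.1 (hφA.symm ▸ a0.2)
  have hφx : φ x' = φ x := by rw [hx', map_mul, map_zpow, hφa, one_zpow, mul_one]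
  have hφy : φ y' = φ y := by rw [hy', map_mul, map_zpow, hφa, one_zpow, mul_one]
  have hcomm' : x' * y' = y' * x' := by
    rw [← commutatorElement_eq_one_iff_mul_comm, hx', hy', hmulL, hmulR, hmulR,
      ← commutatorElement_inv y ((a0 : G) ^ j), hR, hR,
      (commutatorElement_eq_one_iff_mul_comm.2 (Commute.zpow_zpow_self (a0 : G) j (-i))),
      ← hij, mul_one]
    have e1 := Subgroup.mem_center_iff.1 (Z.zpow_mem (hcz x) i) (φ y ^ j)
    rw [← hφdef] at e1
    show φ x ^ i * φ y ^ j * φ x ^ (-i) * (φ y ^ j)⁻¹ = 1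
    rw [← e1, zpow_neg]
    group
  set B := Subgroup.closure ((Z : Set G) ∪ {x', y'}) with hB
  have hZB : Z ≤ B := fun g hg => Subgroup.subset_closure (Or.inl hg)
  have hBc : IsMulCommutative B := by
    refine Subgroup.isMulCommutative_closure fun u hu v hv => ?_
    rcases hu with hu | rfl | rfl
    · exact (Subgroup.mem_center_iff.1 hu v).symm
    all_goals rcases hv with hv | rfl | rfl
    all_goals first
      | exact Subgroup.mem_center_iff.1 hv _
      | rfl
      | exact hcomm'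
      | exact hcomm'.symm
  have hBn : B.Normal := ⟨fun b hb g => by
    rw [show g * b * g⁻¹ = ⁅g, b⁆ * b by rw [commutatorElement_def]; group]
    exact mul_mem (hZB (hcommZ g b)) hb⟩
  have hNZ : N ≤ Z := by
    intro g hg
    refine hker ⟨g, hNA hg⟩ ?_
    rw [← orderOf_eq_one_iff]
    refine Nat.eq_one_of_dvd_coprimes hNcop.symm (orderOf_dvd_of_pow_eq_one (hzrange _)) ?_
    exact (orderOf_map_dvd z _).trans (by
      rw [← Subgroup.orderOf_coe]; exact N.orderOf_dvd_natCard hg)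
  have hBA := hbig B (hNZ.trans hZB) hBn hBc
  have hAZ : Nat.card A = p * Nat.card Z := by
    rw [← hZrel, mul_comm]
    have := Subgroup.relIndex_mul_relIndex (⊥ : Subgroup G) Z A bot_le hZA
    rw [Subgroup.relIndex_bot_left, Subgroup.relIndex_bot_left] at this
    exact this.symm
  have himg : p * p ≤ Nat.card (B.map φ) := by
    have hle : Subgroup.zpowers (φ x) ⊔ Subgroup.zpowers (φ y) ≤ B.map φ :=
      sup_le (Subgroup.zpowers_le.2 ⟨x', Subgroup.subset_closure (Or.inr (Or.inl rfl)), hφx⟩)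
        (Subgroup.zpowers_le.2 ⟨y', Subgroup.subset_closure (Or.inr (Or.inr rfl)), hφy⟩)
    refine le_trans (le_of_eq ?_) (Subgroup.card_le_of_le hle)
    rw [hS2card]
    have hφxne : φ x ≠ 1 := fun e => hx (hφA ▸ MonoidHom.mem_ker.2 e)
    have hφyne : φ y ≠ 1 := fun e => hy (e ▸ one_mem _)
    have hcy : Nat.card (Subgroup.zpowers (φ y)) = p := by
      rw [Nat.card_zpowers, orderOf_eq_prime (hWexp y) hφyne]
    have hcx : Nat.card (Subgroup.zpowers (φ x)) = p := by
      rw [Nat.card_zpowers, orderOf_eq_prime (hWexp x) hφxne]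
    rw [hcy]
    congr 1
    rcases (Nat.dvd_prime hp).1
        (hcx ▸ Subgroup.relIndex_dvd_card (Subgroup.zpowers (φ y)) (Subgroup.zpowers (φ x))) with
      h1 | h1
    · exfalso
      have h2 : Subgroup.zpowers (φ x) = Subgroup.zpowers (φ y) :=
        Subgroup.eq_of_le_of_card_ge (Subgroup.relIndex_eq_one.1 h1) (le_of_eq (hcy.trans hcx.symm))
      exact hy (h2 ▸ Subgroup.mem_zpowers (φ y))
    · exact h1.symm
  have hBcard : p * p * Nat.card Z ≤ Nat.card B := by
    have h1 := (φ.comp B.subtype).ker.index_mul_card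
    rw [Subgroup.index_ker, MonoidHom.range_comp, Subgroup.range_subtype] at h1
    rw [← h1]
    refine Nat.mul_le_mul himg (Nat.card_le_card_of_injective
      (fun c : Z => (⟨⟨(c : G), hZB c.2⟩,
        MonoidHom.mem_ker.2 (MonoidHom.mem_ker.1 (hφA.symm ▸ hZA c.2 : (c : G) ∈ φ.ker))⟩ :
          (φ.comp B.subtype).ker)) ?_)
    intro c d hcd
    exact Subtype.ext (congrArg (fun w : (φ.comp B.subtype).ker => ((w : B) : G)) hcd)
  rw [hAZ] at hBA
  have h5 : p * p * Nat.card Z ≤ p * Nat.card Z := hBcard.trans hBA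
  have h6 : p * p ≤ p := Nat.le_of_mul_le_mul_right h5 Nat.card_pos
  have h7 : p < p * p := lt_mul_of_one_lt_right hp.pos hp.one_lt
  omega

theorem charDegree_eq_one_of_comm [Fintype G] (h : ∀ a b : G, a * b = b * a)
    (χ : Cfsg.IrrCharacter G) : Cfsg.charDegree (χ : G → ℂ) = 1 := by
  obtain ⟨d, hd, hdvd⟩ := CharTheory.Ito.degree_dvd_index_abelian (⊤ : Subgroup G)
    (fun a _ b _ => h a b) χ.2
  rw [Subgroup.index_top, Nat.dvd_one] at hdvd
  exact Nat.cast_injective (R := ℂ) ((Degrees.charDegree_cast χ).trans (hd.trans (by rw [hdvd])))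

theorem backward {p : ℕ} [Fact p.Prime]
    (h : (∃ A : Subgroup G, A.Normal ∧ (∀ a ∈ A, ∀ b ∈ A, a * b = b * a) ∧ A.index = p) ∨
      (Subgroup.center G).index = p ^ 3) (χ : Cfsg.IrrCharacter G) :
    Cfsg.charDegree (χ : G → ℂ) = 1 ∨ Cfsg.charDegree (χ : G → ℂ) = p := by
  have hp : p.Prime := Fact.out
  rcases h with ⟨A, hAn, hab, hA⟩ | hZ
  · haveI := hAn
    obtain ⟨d, hd, hdvd⟩ := CharTheory.Ito.degree_dvd_index_abelian A hab χ.2
    rw [hA] at hdvd
    have e : Cfsg.charDegree (χ : G → ℂ) = d :=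
      Nat.cast_injective (R := ℂ) ((Degrees.charDegree_cast χ).trans hd)
    exact e ▸ (Nat.dvd_prime hp).1 hdvd
  · obtain ⟨d, hd, hdvd⟩ := CharTheory.Ito.degree_dvd_index_abelian (Subgroup.center G)
      (fun a _ b hb => Subgroup.mem_center_iff.1 hb a) χ.2
    have hsq := Cfsg.Agent.CN.degree_sq_le_center_index χ.2 hd
    rw [hZ] at hdvd hsq
    have e : Cfsg.charDegree (χ : G → ℂ) = d :=
      Nat.cast_injective (R := ℂ) ((Degrees.charDegree_cast χ).trans hd)
    obtain ⟨i, hi, rfl⟩ := (Nat.dvd_prime_pow hp).1 hdvd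
    rw [← pow_mul] at hsq
    have := (Nat.pow_le_pow_iff_right hp.one_lt).1 hsq
    rcases (by omega : i = 0 ∨ i = 1) with rfl | rfl
    · exact Or.inl (e.trans (pow_zero p))
    · exact Or.inr (e.trans (pow_one p))

end Cfsg.Agent.BlocksChars.TwoDegrees
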